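import Mathlib
import Cfsg.Agent.Lib.TwoGroups.FusionCentric
import Cfsg.Agent.Lib.Fusion.RankTwoFusionSimple

/-!
Sylow 2-subgroups with centre of index four: elementary facts, the three abelian maximal
subgroups, and generation of the Sylow subgroup by fusion in a perfect group.
-/

set_option autoImplicit false
set_option linter.unusedSectionVars false
set_option linter.style.haveILetI false

universe u

namespace Cfsg.Agent.Lib.CenterIndexFour70

open Subgroup
open scoped commutatorElement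

variable {G : Type u} [Group G]

/-- The centre of a subgroup, as a subgroup of the ambient group. -/
def cen (S : Subgroup G) : Subgroup G := S ⊓ centralizer (S : Set G)

theorem cen_comm {S : Subgroup G} {c s : G} (hc : c ∈ cen S) (hs : s ∈ S) : s * c = c * s :=
  mem_centralizer_iff.1 hc.2 s hs

theorem mem_cen_iff {S : Subgroup G} {c : G} :
    c ∈ cen S ↔ c ∈ S ∧ ∀ s ∈ S, s * c = c * s :=
  ⟨fun h => ⟨h.1, fun _ hs => cen_comm h hs⟩, fun h => ⟨h.1, mem_centralizer_iff.2 h.2⟩⟩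

theorem conj_mem_cen {S : Subgroup G} {n c : G} (hn : n ∈ normalizer (S : Set G))
    (hc : c ∈ cen S) : n * c * n⁻¹ ∈ cen S := by
  refine mem_cen_iff.2 ⟨(mem_normalizer_iff.1 hn c).1 hc.1, fun s hs => ?_⟩
  have h := cen_comm hc ((mem_normalizer_iff''.1 hn s).1 hs)
  calc s * (n * c * n⁻¹) = n * (n⁻¹ * s * n * c) * n⁻¹ := by group
    _ = n * (c * (n⁻¹ * s * n)) * n⁻¹ := by rw [h]
    _ = n * c * n⁻¹ * s := by group

/-- The subgroup generated by the centre and `x`. -/
def axis (S : Subgroup G) (x : G) : Subgroup G := cen S ⊔ zpowers x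

/-- `S` is non-abelian, `S'` is generated by the central involution `z`, and the centre has index
four with elementary factor group. -/
structure Base (S : Subgroup G) (z : G) : Prop where
  hna : ∃ x ∈ S, ∃ y ∈ S, x * y ≠ y * x
  z_mem : z ∈ cen S
  z_ne : z ≠ 1
  z_sq : z * z = 1
  comm : ∀ x ∈ S, ∀ y ∈ S, x * y * x⁻¹ = y ∨ x * y * x⁻¹ = y * z
  sq : ∀ x ∈ S, x * x ∈ cen S
  cover : ∀ x ∈ S, ∀ y ∈ S, x ∉ cen S → y ∉ cen S → x * y ∉ cen S →
    ∀ w ∈ S, w ∈ cen S ∨ x * w ∈ cen S ∨ y * w ∈ cen S ∨ (x * y)⁻¹ * w ∈ cen S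

namespace Base

variable {S : Subgroup G} {z : G} (B : Base S z)

include B

theorem z_inv : z⁻¹ = z := inv_eq_of_mul_eq_one_right B.z_sq

theorem z_mem_S : z ∈ S := B.z_mem.1

theorem inv_mul_mem {x w : G} (hx : x ∈ S) : x⁻¹ * w ∈ cen S ↔ x * w ∈ cen S := by
  rw [show x * w = (x * x) * (x⁻¹ * w) by group]
  exact ((cen S).mul_mem_cancel_left (B.sq x hx)).symm

theorem mem_axis {x w : G} (hx : x ∈ S) :
    w ∈ axis S x ↔ w ∈ cen S ∨ x⁻¹ * w ∈ cen S := by
  constructor
  · intro h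
    rw [axis, sup_comm, ← SetLike.mem_coe, Subgroup.coe_mul_of_left_le_normalizer_right (zpowers x) (cen S)
      (by rw [zpowers_le]; exact centralizer_le_normalizer _ (mem_centralizer_iff.2 fun c hc => (cen_comm hc hx).symm)), Set.mem_mul] at h
    obtain ⟨a, ⟨k, rfl⟩, c, hc, rfl⟩ := h
    rcases Int.even_or_odd k with ⟨j, rfl⟩ | ⟨j, rfl⟩
    · left
      show x ^ (j + j) * c ∈ cen S
      rw [show x ^ (j + j) = (x * x) ^ j by rw [← pow_two, ← zpow_natCast, ← zpow_mul]; congr 1; omega]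
      exact mul_mem (zpow_mem (B.sq x hx) j) hc
    · right
      show x⁻¹ * (x ^ (2 * j + 1) * c) ∈ cen S
      rw [show x⁻¹ * (x ^ (2 * j + 1) * c) = (x * x) ^ j * c by
        rw [← mul_assoc, ← pow_two, ← zpow_natCast, ← zpow_mul, zpow_add, zpow_one]
        group]
      exact mul_mem (zpow_mem (B.sq x hx) j) hc
  · rintro (h | h)
    · exact mem_sup_left h
    · rw [show w = x * (x⁻¹ * w) by group]
      exact mul_mem (mem_sup_right (mem_zpowers x)) (mem_sup_left h)

theorem axis_le {x : G} (hx : x ∈ S) : axis S x ≤ S :=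
  sup_le inf_le_left (zpowers_le.2 hx)

omit B in
theorem self_mem_axis (S : Subgroup G) (x : G) : x ∈ axis S x := mem_sup_right (mem_zpowers x)

omit B in
theorem cen_le_axis (S : Subgroup G) (x : G) : cen S ≤ axis S x := le_sup_left

/-- Every non-central element generates, with the centre, the axis it lies in. -/
theorem axis_eq {x y : G} (hx : x ∈ S) (hy : y ∈ axis S x) (hyc : y ∉ cen S) :
    axis S y = axis S x := by
  have hyS := B.axis_le hx hy
  have h1 : x⁻¹ * y ∈ cen S := ((B.mem_axis hx).1 hy).resolve_left hyc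
  refine le_antisymm (sup_le le_sup_left (zpowers_le.2 hy)) (sup_le le_sup_left (zpowers_le.2 ?_))
  refine (B.mem_axis hyS).2 (Or.inr ?_)
  rw [show y⁻¹ * x = (x⁻¹ * y)⁻¹ by group]
  exact inv_mem h1

/-- Two elements on different axes, and their product, are non-central. -/
theorem mul_notMem {x y : G} (hx : x ∈ S) (hy : y ∉ axis S x) : x * y ∉ cen S := fun h =>
  hy ((B.mem_axis hx).2 (Or.inr ((B.inv_mul_mem hx).2 h)))

theorem notMem_cen_of {x y : G} (hy : y ∉ axis S x) : y ∉ cen S := fun h =>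
  hy (mem_sup_left h)

/-- `S` is the product of two axes. -/
theorem exists_mul {x y : G} (hx : x ∈ S) (hy : y ∈ S) (hxc : x ∉ cen S) (hyx : y ∉ axis S x)
    {w : G} (hw : w ∈ S) : ∃ a ∈ axis S x, ∃ b ∈ axis S y, a * b = w := by
  rcases B.cover x hx y hy hxc (B.notMem_cen_of hyx) (B.mul_notMem hx hyx) w hw with h | h | h | h
  · exact ⟨w, mem_sup_left h, 1, one_mem _, mul_one w⟩
  · exact ⟨w, (B.mem_axis hx).2 (Or.inr ((B.inv_mul_mem hx).2 h)), 1, one_mem _, mul_one w⟩
  · exact ⟨1, one_mem _, w, (B.mem_axis hy).2 (Or.inr ((B.inv_mul_mem hy).2 h)), one_mul w⟩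
  · exact ⟨x, self_mem_axis S x, y * ((x * y)⁻¹ * w),
      mul_mem (self_mem_axis S y) (mem_sup_left h), by group⟩

/-- An element commuting with an element on another axis and itself non-central: impossible. -/
theorem not_commute {x y : G} (hx : x ∈ S) (hy : y ∈ S) (hxc : x ∉ cen S)
    (hyx : y ∉ axis S x) : x * y ≠ y * x := by
  intro h
  refine hxc (mem_cen_iff.2 ⟨hx, fun w hw => ?_⟩)
  obtain ⟨a, ha, b, hb, rfl⟩ := B.exists_mul hx hy hxc hyx hw
  have key : ∀ (u : G), u ∈ S → u * x = x * u → ∀ a ∈ axis S u, a * x = x * a := by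
    intro u hu hux a ha
    rcases (B.mem_axis hu).1 ha with hc | hc
    · exact (cen_comm hc hx).symm
    · calc a * x = u * ((u⁻¹ * a) * x) := by group
        _ = (u * x) * (u⁻¹ * a) := by rw [← cen_comm hc hx]; group
        _ = x * a := by rw [hux]; group
  have h1 := key x hx rfl a ha
  have h2 := key y hy h.symm b hb
  calc a * b * x = a * (b * x) := mul_assoc _ _ _
    _ = (a * x) * b := by rw [h2, mul_assoc]
    _ = x * (a * b) := by rw [h1, mul_assoc]

theorem conj_eq {x y : G} (hx : x ∈ S) (hy : y ∈ S) (hxc : x ∉ cen S) (hyx : y ∉ axis S x) :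
    y * x * y⁻¹ = x * z :=
  (B.comm y hy x hx).resolve_left fun h =>
    B.not_commute hx hy hxc hyx (mul_inv_eq_iff_eq_mul.1 h).symm

theorem axis_comm {x a b : G} (hx : x ∈ S) (ha : a ∈ axis S x) (hb : b ∈ axis S x) :
    a * b = b * a := by
  rcases (B.mem_axis hx).1 ha with hc | hc
  · exact (cen_comm hc (B.axis_le hx hb)).symm
  rcases (B.mem_axis hx).1 hb with hd | hd
  · exact cen_comm hd (B.axis_le hx ha)
  · calc a * b = x * (x⁻¹ * a) * (x * (x⁻¹ * b)) := by group
      _ = x * ((x⁻¹ * a) * x) * (x⁻¹ * b) := by group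
      _ = x * (x * (x⁻¹ * a)) * (x⁻¹ * b) := by rw [← cen_comm hc hx]
      _ = x * (x * ((x⁻¹ * a) * (x⁻¹ * b))) := by group
      _ = x * (x * ((x⁻¹ * b) * (x⁻¹ * a))) := by
        rw [cen_comm hd hc.1]
      _ = x * ((x * (x⁻¹ * b)) * (x⁻¹ * a)) := by group
      _ = x * (((x⁻¹ * b) * x) * (x⁻¹ * a)) := by rw [cen_comm hd hx]
      _ = b * a := by group

/-- `S'` is in every axis, which is therefore normalised by `S`. -/
theorem le_normalizer_axis [Finite G] {x : G} (hx : x ∈ S) :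
    S ≤ normalizer (axis S x : Set G) := by
  intro s hs
  refine Fusion.RankTwoFusionSimple.mem_normalizer_of fun a ha => ?_
  rcases B.comm s hs a (B.axis_le hx ha) with e | e <;> rw [e]
  · exact ha
  · exact mul_mem ha (mem_sup_left B.z_mem)

/-- The product of two elements of `S` outside an axis lies in it. -/
theorem mul_mem_axis [Finite G] {x a b : G} (hx : x ∈ S) (hxc : x ∉ cen S) (ha : a ∈ S) (hb : b ∈ S)
    (hax : a ∉ axis S x) (hbx : b ∉ axis S x) : a * b ∈ axis S x := by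
  have hab := B.cover x hx a ha hxc (B.notMem_cen_of hax) (B.mul_notMem hx hax) b hb
  rcases hab with h | h | h | h
  · exact absurd (mem_sup_left h) hbx
  · exact absurd ((B.mem_axis hx).2 (Or.inr ((B.inv_mul_mem hx).2 h))) hbx
  · exact mem_sup_left h
  · have hm : a * x * a⁻¹ ∈ axis S x :=
      ((mem_normalizer_iff.1 (B.le_normalizer_axis hx ha)) x).1 (self_mem_axis S x)
    rw [show a * b = (a * x * a⁻¹) * (a * a) * ((x * a)⁻¹ * b) by
      have e := cen_comm (B.sq a ha) hx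
      calc a * b = a * (x * a) * ((x * a)⁻¹ * b) := by group
        _ = _ := by group]
    exact mul_mem (mul_mem hm (mem_sup_left (B.sq a ha))) (mem_sup_left h)

/-- A subgroup of `S` containing its centraliser in `S` is `S` or an axis. -/
theorem centric_cases {R : Subgroup G} (hR : R ≤ S) (hC : S ⊓ centralizer (R : Set G) ≤ R) :
    R = S ∨ ∃ x ∈ S, x ∉ cen S ∧ R = axis S x := by
  have hZR : cen S ≤ R := fun c hc =>
    hC ⟨hc.1, mem_centralizer_iff.2 fun r hr => cen_comm hc (hR hr)⟩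
  by_cases hRc : R ≤ cen S
  · refine Or.inl (le_antisymm hR fun s hs => hC ⟨hs, mem_centralizer_iff.2 fun r hr => ?_⟩)
    exact (cen_comm (hRc hr) hs).symm
  obtain ⟨x, hxR, hxc⟩ := SetLike.not_le_iff_exists.1 hRc
  by_cases hRx : R ≤ axis S x
  · exact Or.inr ⟨x, hR hxR, hxc, le_antisymm hRx (sup_le hZR (zpowers_le.2 hxR))⟩
  obtain ⟨y, hyR, hyx⟩ := SetLike.not_le_iff_exists.1 hRx
  refine Or.inl (le_antisymm hR fun s hs => ?_)
  obtain ⟨a, ha, b, hb, rfl⟩ := B.exists_mul (hR hxR) (hR hyR) hxc hyx hs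
  exact mul_mem (sup_le hZR (zpowers_le.2 hxR) ha) (sup_le hZR (zpowers_le.2 hyR) hb)

theorem exists_noncentral : ∃ x ∈ S, x ∉ cen S := by
  obtain ⟨x, hx, y, hy, hxy⟩ := B.hna
  exact ⟨x, hx, fun h => hxy (cen_comm h hy).symm⟩

theorem exists_outside {x : G} (hx : x ∈ S) (hxc : x ∉ cen S) : ∃ y ∈ S, y ∉ axis S x := by
  by_contra h
  push Not at h
  exact hxc (mem_cen_iff.2 ⟨hx, fun s hs => B.axis_comm hx (h s hs) (self_mem_axis S x)⟩)

end Base

/-- In a perfect group a subgroup catching all fusion in centric subgroups contains the Sylow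
subgroup. -/
theorem sylow_le_of_centric [Finite G] (hperf : commutator G = ⊤) (S : Sylow 2 G) (M : Subgroup G)
    (hM : ∀ R : Subgroup G, R ≤ S → (S : Subgroup G) ⊓ centralizer (R : Set G) ≤ R →
      ∀ n ∈ normalizer (R : Set G), ∀ r ∈ R, n * r * n⁻¹ * r⁻¹ ∈ M) :
    (S : Subgroup G) ≤ M := by
  haveI : Fact (Nat.Prime 2) := ⟨Nat.prime_two⟩
  have hP : ∀ s ∈ S, ∀ r ∈ S, s * r * s⁻¹ * r⁻¹ ∈ M :=
    hM _ le_rfl inf_le_left |> fun h s hs r hr => h s (le_normalizer hs) r hr
  have key : ∀ a ∈ S, ∀ g : G, g * a * g⁻¹ ∈ S → g * a * g⁻¹ * a⁻¹ ∈ M := by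
    intro a ha g hga
    refine TwoGroups.FusionCentric.fusion_invariant_centric S (fun w => w * a⁻¹ ∈ M) ?_ ?_
      a g ha hga (by simp)
    · intro s hs w hw h
      rw [show s * w * s⁻¹ * a⁻¹ = (s * w * s⁻¹ * w⁻¹) * (w * a⁻¹) by group]
      exact mul_mem (hP s hs w hw) h
    · intro R hR hC _ n hn w hw h
      rw [show n * w * n⁻¹ * a⁻¹ = (n * w * n⁻¹ * w⁻¹) * (w * a⁻¹) by group]
      exact mul_mem (hM R hR hC n hn w hw) h
  have hfoc : commutator G ⊓ (S : Subgroup G) ≤ M := by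
    rw [Subgroup.commutator_inf_eq_focalSubgroup, Subgroup.focalSubgroup_def, Subgroup.closure_le]
    rintro w ⟨hw, a, ha, g, rfl⟩
    have h1 : g * a⁻¹ * g⁻¹ ∈ S := by
      rw [show g * a⁻¹ * g⁻¹ = a⁻¹ * ⁅a, g⁆ by rw [commutatorElement_def]; group]
      exact mul_mem (inv_mem ha) hw
    have h2 := key a⁻¹ (inv_mem ha) g h1
    rw [inv_inv] at h2
    have h3 := hP a ha _ h1
    rw [show ⁅a, g⁆ = (a * (g * a⁻¹ * g⁻¹) * a⁻¹ * (g * a⁻¹ * g⁻¹)⁻¹) * (g * a⁻¹ * g⁻¹ * a) by
      rw [commutatorElement_def]; group]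
    exact mul_mem h3 h2
  rwa [hperf, top_inf_eq] at hfoc

end Cfsg.Agent.Lib.CenterIndexFour70
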