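import Cfsg.Agent.Lib.CenterIndexFour70.Base

/-!
The automorphisms induced on an abelian maximal subgroup of the Sylow 2-subgroup: either fusion in
it is seen in the normaliser of the Sylow subgroup, or it is a four-group times a fixed part.
-/

set_option autoImplicit false
set_option linter.unusedSectionVars false
set_option linter.style.haveILetI false

universe u

namespace Cfsg.Agent.Lib.CenterIndexFour70

open Subgroup

variable {G : Type u} [Group G] [Finite G]

/-- `t` acts on `A` as a transvection with centre `c`. -/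
structure Trans (A : Subgroup G) (t c : G) : Prop where
  mem : t ∈ normalizer (A : Set G)
  c_mem : c ∈ A
  c_sq : c * c = 1
  act : ∀ a ∈ A, t * a * t⁻¹ = a ∨ t * a * t⁻¹ = a * c
  fix : t * c * t⁻¹ = c
  moves : ∃ a ∈ A, t * a * t⁻¹ ≠ a

/-- `A` is abelian and the Sylow 2-subgroups of its automiser have order two. -/
structure Small (A : Subgroup G) : Prop where
  comm : ∀ a ∈ A, ∀ b ∈ A, a * b = b * a
  four : ¬ 4 ∣ Nat.card (Subgroup.normalizerMonoidHom A).range

theorem conj_mem_of {A : Subgroup G} {m a : G} (hm : m ∈ normalizer (A : Set G)) (ha : a ∈ A) :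
    m * a * m⁻¹ ∈ A := (mem_normalizer_iff.1 hm a).1 ha

namespace Trans

variable {A : Subgroup G} {t t' t'' c c' c'' : G}

theorem conj (h : Trans A t c) {m : G} (hm : m ∈ normalizer (A : Set G)) :
    Trans A (m * t * m⁻¹) (m * c * m⁻¹) where
  mem := mul_mem (mul_mem hm h.mem) (inv_mem hm)
  c_mem := conj_mem_of hm h.c_mem
  c_sq := by rw [show m * c * m⁻¹ * (m * c * m⁻¹) = m * (c * c) * m⁻¹ by group, h.c_sq]; group
  act := fun a ha => by
    rcases h.act (m⁻¹ * a * m) ((mem_normalizer_iff''.1 hm a).1 ha) with e | e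
    · left
      calc _ = m * (t * (m⁻¹ * a * m) * t⁻¹) * m⁻¹ := by group
        _ = a := by rw [e]; group
    · right
      calc _ = m * (t * (m⁻¹ * a * m) * t⁻¹) * m⁻¹ := by group
        _ = a * (m * c * m⁻¹) := by rw [e]; group
  fix := by
    calc _ = m * (t * c * t⁻¹) * m⁻¹ := by group
      _ = _ := by rw [h.fix]
  moves := by
    obtain ⟨a, ha, hne⟩ := h.moves
    refine ⟨m * a * m⁻¹, conj_mem_of hm ha, fun e => hne ?_⟩
    calc t * a * t⁻¹ = m⁻¹ * (m * t * m⁻¹ * (m * a * m⁻¹) * (m * t * m⁻¹)⁻¹) * m := by group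
      _ = a := by rw [e]; group

theorem c_ne (h : Trans A t c) : c ≠ 1 := by
  obtain ⟨a, ha, hne⟩ := h.moves
  rintro rfl
  rcases h.act a ha with e | e
  · exact hne e
  · exact hne (by rw [e, mul_one])

theorem conj_mul_act (h : Trans A t c) {a : G} (ha : a ∈ A) :
    t * (t * a * t⁻¹) * t⁻¹ = a := by
  rcases h.act a ha with e | e
  · rw [e, e]
  · rw [e, show t * (a * c) * t⁻¹ = (t * a * t⁻¹) * (t * c * t⁻¹) by group, e, h.fix, mul_assoc,
      h.c_sq, mul_one]

theorem eq_of_commute (hA : Small A) (h : Trans A t c) (h' : Trans A t' c')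
    (hc : ∀ a ∈ A, t * (t' * a * t'⁻¹) * t⁻¹ = t' * (t * a * t⁻¹) * t'⁻¹) :
    ∀ a ∈ A, t * a * t⁻¹ = t' * a * t'⁻¹ := by
  classical
  set φ := Subgroup.normalizerMonoidHom A with hφ
  let f : φ.range := φ.rangeRestrict ⟨t, h.mem⟩
  let f' : φ.range := φ.rangeRestrict ⟨t', h'.mem⟩
  have hext : ∀ {p q : φ.range}, (∀ a : A, ((p : MulAut A) a : G) = ((q : MulAut A) a : G)) →
      p = q := fun {p q} hh => Subtype.ext (MulEquiv.ext fun a => Subtype.ext (hh a))
  have hval : ∀ (a : A), (((f : MulAut A) a : A) : G) = t * a * t⁻¹ := fun _ => rfl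
  have hval' : ∀ (a : A), (((f' : MulAut A) a : A) : G) = t' * a * t'⁻¹ := fun _ => rfl
  have hf2 : f * f = 1 := hext fun a => h.conj_mul_act a.2
  have hf2' : f' * f' = 1 := hext fun a => h'.conj_mul_act a.2
  have hff : f * f' = f' * f := hext fun a => hc a a.2
  have hf1 : f ≠ 1 := fun e => by
    obtain ⟨a, ha, hne⟩ := h.moves
    exact hne ((hval ⟨a, ha⟩).symm.trans (congrArg (fun p : φ.range => (((p : MulAut A) ⟨a, ha⟩ : A) : G)) e))
  have hf1' : f' ≠ 1 := fun e => by
    obtain ⟨a, ha, hne⟩ := h'.moves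
    exact hne ((hval' ⟨a, ha⟩).symm.trans (congrArg (fun p : φ.range => (((p : MulAut A) ⟨a, ha⟩ : A) : G)) e))
  by_cases he : f = f'
  · intro a ha
    exact congrArg (fun p : φ.range => (((p : MulAut A) ⟨a, ha⟩ : A) : G)) he
  refine absurd ?_ hA.four
  have hprod : f * f' ≠ 1 := fun e => he (by
    calc f = f * (f' * f') := by rw [hf2', mul_one]
      _ = f' := by rw [← mul_assoc, e, one_mul])
  let H : Subgroup φ.range :=
    { carrier := {1, f, f', f * f'}
      one_mem' := Or.inl rfl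
      mul_mem' := by
        have e1 : f * (f * f') = f' := by rw [← mul_assoc, hf2, one_mul]
        have e2 : f' * (f * f') = f := by rw [hff, ← mul_assoc, hf2', one_mul]
        have e3 : f * f' * f = f' := by rw [hff, mul_assoc, hf2, mul_one]
        have e4 : f * f' * f' = f := by rw [mul_assoc, hf2', mul_one]
        have e5 : f * f' * (f * f') = 1 := by rw [← mul_assoc, e3, hf2']
        rintro a b (rfl | rfl | rfl | rfl) (rfl | rfl | rfl | rfl) <;>
          simp [hf2, hf2', e1, e2, e3, e4, e5, ← hff]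
      inv_mem' := by
        have i1 : f⁻¹ = f := inv_eq_of_mul_eq_one_right hf2
        have i2 : f'⁻¹ = f' := inv_eq_of_mul_eq_one_right hf2'
        rintro a (rfl | rfl | rfl | rfl) <;> simp [i1, i2, mul_inv_rev, ← hff] }
  have hcard : Nat.card H = 4 := by
    rw [← SetLike.coe_sort_coe, Nat.card_coe_set_eq]
    show ({1, f, f', f * f'} : Set φ.range).ncard = 4
    rw [Set.ncard_insert_of_notMem, Set.ncard_insert_of_notMem, Set.ncard_pair]
    · intro e; exact hf1 (by simpa using e.symm)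
    · rintro (e | e)
      · exact he e
      · exact hf1' (by simpa using e)
    · rintro (e | e | e)
      · exact hf1 e.symm
      · exact hf1' e.symm
      · exact hprod e.symm
  exact hcard ▸ Subgroup.card_subgroup_dvd_card H

theorem centre_eq (h : Trans A t c) (h' : Trans A t' c')
    (he : ∀ a ∈ A, t * a * t⁻¹ = t' * a * t'⁻¹) : c = c' := by
  obtain ⟨a, ha, hne⟩ := h.moves
  exact mul_left_cancel (a := a) (by
    rw [← (h.act a ha).resolve_left hne, he a ha]
    exact (h'.act a ha).resolve_left (he a ha ▸ hne))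

/-- A transvection is determined by its centre. -/
theorem same (hA : Small A) (h : Trans A t c) (h' : Trans A t' c) :
    ∀ a ∈ A, t * a * t⁻¹ = t' * a * t'⁻¹ := by
  refine h.eq_of_commute hA h' fun a ha => ?_
  have r : ∀ u : G, u * (a * c) * u⁻¹ = u * a * u⁻¹ * (u * c * u⁻¹) := fun u => by group
  rcases h.act a ha with e | e <;> rcases h'.act a ha with e' | e' <;>
    simp only [e, e', r, h.fix, h'.fix]

theorem fix_iff (hA : Small A) (h : Trans A t c) (h' : Trans A t' c') (hne : c ≠ c') :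
    t' * c * t'⁻¹ = c * c' := by
  refine (h'.act c h.c_mem).resolve_left fun e => hne ?_
  have h2 := h.conj h'.mem
  rw [e] at h2
  have hs := same hA h2 h
  refine centre_eq h h' (h.eq_of_commute hA h' fun a ha => ?_)
  have := hs (t' * a * t'⁻¹) (conj_mem_of h'.mem ha)
  rw [← this]
  group

/-- Three centres lie in a four-group. -/
theorem third (hA : Small A) (h : Trans A t c) (h' : Trans A t' c') (h'' : Trans A t'' c'')
    (hne : c ≠ c') : c'' = c ∨ c'' = c' ∨ c'' = c' * c := by
  by_contra hcon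
  push Not at hcon
  obtain ⟨h1, h2, h3⟩ := hcon
  have hu := h'.conj h.mem
  rw [fix_iff hA h' h (Ne.symm hne)] at hu
  have e1 := fix_iff hA h h'' (Ne.symm h1)
  have e2 := fix_iff hA h' h'' (Ne.symm h2)
  have e3 := fix_iff hA hu h'' (Ne.symm h3)
  have key : t'' * (c' * c) * t''⁻¹ = (c' * c) * (c'' * c'') := by
    rw [show t'' * (c' * c) * t''⁻¹ = t'' * c' * t''⁻¹ * (t'' * c * t''⁻¹) by group, e1, e2]
    calc c' * c'' * (c * c'') = c' * (c'' * c) * c'' := by group
      _ = c' * (c * c'') * c'' := by rw [hA.comm _ h''.c_mem _ h.c_mem]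
      _ = c' * c * (c'' * c'') := by group
  rw [e3, h''.c_sq, mul_one] at key
  exact h''.c_ne (mul_left_cancel (a := c' * c) (by rw [key, mul_one]))

end Trans

variable {S : Sylow 2 G} {z : G}

theorem axis_small (B : Base (S : Subgroup G) z) {x : G} (hx : x ∈ S) (hxc : x ∉ cen (S : Subgroup G)) :
    Small (axis (S : Subgroup G) x) := by
  haveI : Fact (Nat.Prime 2) := ⟨Nat.prime_two⟩
  refine ⟨fun a ha b hb => B.axis_comm hx ha hb, ?_⟩
  set A := axis (S : Subgroup G) x with hA
  set N := normalizer (A : Set G) with hN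
  have hSN : (S : Subgroup G) ≤ N := B.le_normalizer_axis hx
  rw [← Subgroup.index_ker]
  intro h4
  have hle : A.subgroupOf N ≤ (Subgroup.normalizerMonoidHom A).ker := by
    intro a ha
    refine MulEquiv.ext fun b => Subtype.ext ?_
    show (a : G) * b * (a : G)⁻¹ = b
    exact mul_inv_eq_iff_eq_mul.2 (B.axis_comm hx ha b.2)
  have h4' : 4 ∣ A.relIndex N := h4.trans (Subgroup.index_dvd_of_le hle)
  have hAS : A.relIndex (S : Subgroup G) = 2 := by
    obtain ⟨y, hy, hyA⟩ := B.exists_outside hx hxc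
    rw [Subgroup.relIndex, Subgroup.index_eq_two_iff]
    refine ⟨⟨y, hy⟩, fun b => ?_⟩
    rw [Subgroup.mem_subgroupOf, Subgroup.mem_subgroupOf]
    by_cases hb : (b : G) ∈ A
    · exact Or.inr ⟨hb, fun h => hyA ((A.mul_mem_cancel_left hb).1 h)⟩
    · exact Or.inl ⟨B.mul_mem_axis hx hxc b.2 hy hb hyA, hb⟩
  rw [← Subgroup.relIndex_mul_relIndex A (S : Subgroup G) N (B.axis_le hx) hSN, hAS] at h4'
  have h2 : 2 ∣ (S : Subgroup G).relIndex N := by omega
  exact S.not_dvd_index (h2.trans (Subgroup.relIndex_dvd_index_of_le hSN))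

theorem trans_base (B : Base (S : Subgroup G) z) {x s : G} (hx : x ∈ S)
    (hxc : x ∉ cen (S : Subgroup G)) (hs : s ∈ S) (hsx : s ∉ axis (S : Subgroup G) x) :
    Trans (axis (S : Subgroup G) x) s z where
  mem := B.le_normalizer_axis hx hs
  c_mem := mem_sup_left B.z_mem
  c_sq := B.z_sq
  act := fun a ha => B.comm s hs a (B.axis_le hx ha)
  fix := by rw [cen_comm B.z_mem hs, mul_inv_cancel_right]
  moves := ⟨x, Base.self_mem_axis _ x, fun h =>
    B.not_commute hx hs hxc hsx (mul_inv_eq_iff_eq_mul.1 h).symm⟩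

/-- Some element of the normaliser of the axis moves `z`. -/
def Active (S : Subgroup G) (z x : G) : Prop :=
  ∃ m ∈ normalizer (axis S x : Set G), m * z * m⁻¹ ≠ z

/-- Fusion in an inactive axis is seen in the normaliser of the Sylow subgroup. -/
theorem exists_mem_normalizer (B : Base (S : Subgroup G) z) {x : G} (hx : x ∈ S)
    (hxc : x ∉ cen (S : Subgroup G)) (hin : ¬ Active (S : Subgroup G) z x)
    {n : G} (hn : n ∈ normalizer (axis (S : Subgroup G) x : Set G)) :
    ∃ k ∈ normalizer ((S : Subgroup G) : Set G), k ∈ normalizer (axis (S : Subgroup G) x : Set G) ∧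
      ∀ a ∈ axis (S : Subgroup G) x, k * a * k⁻¹ = n * a * n⁻¹ := by
  haveI : Fact (Nat.Prime 2) := ⟨Nat.prime_two⟩
  set A := axis (S : Subgroup G) x with hA
  set C := centralizer (A : Set G) with hC
  have hCN : C ≤ normalizer (A : Set G) := centralizer_le_normalizer _
  have hSN : (S : Subgroup G) ≤ normalizer (A : Set G) := B.le_normalizer_axis hx
  have hmax : ∀ U : Subgroup G, IsPGroup 2 U → U ≤ (S : Subgroup G) ⊔ C → (S : Subgroup G) ≤ U →
      U = S := fun U hU _ hle => S.3 hU hle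
  have hnS : Fusion.Alperin.conjS n (S : Subgroup G) ≤ (S : Subgroup G) ⊔ C := by
    rintro w ⟨s, hs, rfl⟩
    show n * s * n⁻¹ ∈ _
    by_cases hsA : s ∈ A
    · exact mem_sup_left (B.axis_le hx (conj_mem_of hn hsA))
    have h1 := trans_base B hx hxc hs hsA
    have h2 := h1.conj hn
    rw [not_not.1 fun h => hin ⟨n, hn, h⟩] at h2
    have hsame := Trans.same (axis_small B hx hxc) h1 h2
    rw [show n * s * n⁻¹ = s * (s⁻¹ * (n * s * n⁻¹)) by group]
    refine mul_mem (mem_sup_left hs) (mem_sup_right (mem_centralizer_iff.2 fun a ha => ?_))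
    have e := hsame a ha
    have hc : n * s * n⁻¹ * a = s * a * s⁻¹ * (n * s * n⁻¹) := by rw [e]; group
    calc a * (s⁻¹ * (n * s * n⁻¹)) = s⁻¹ * (s * a * s⁻¹ * (n * s * n⁻¹)) := by group
      _ = s⁻¹ * (n * s * n⁻¹) * a := by rw [← hc, mul_assoc s⁻¹]
  obtain ⟨k, hk, hkS⟩ := Fusion.Alperin.exists_conj_le_of_maximal S.2 le_sup_left hmax
    (S.2.map _) hnS
  change Fusion.Alperin.conjS k (Fusion.Alperin.conjS n (S : Subgroup G)) ≤ S at hkS
  rw [← Fusion.Alperin.conjS_mul] at hkS
  have hknS : k * n ∈ normalizer ((S : Subgroup G) : Set G) :=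
    Fusion.Alperin.mem_normalizer_of_conjS_eq
      (eq_of_le_of_card_ge hkS (Fusion.Alperin.card_conjS _ _).ge)
  have hSC : (S : Subgroup G) ≤ normalizer (C : Set G) := by
    intro s hs
    refine Fusion.RankTwoFusionSimple.mem_normalizer_of fun c hc => mem_centralizer_iff.2 fun a ha => ?_
    have := mem_centralizer_iff.1 hc _ ((mem_normalizer_iff''.1 (hSN hs) a).1 ha)
    calc a * (s * c * s⁻¹) = s * (s⁻¹ * a * s * c) * s⁻¹ := by group
      _ = s * (c * (s⁻¹ * a * s)) * s⁻¹ := by rw [this]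
      _ = s * c * s⁻¹ * a := by group
  rw [← SetLike.mem_coe, Subgroup.coe_mul_of_left_le_normalizer_right _ _ hSC, Set.mem_mul] at hk
  obtain ⟨s, hs, c, hc, rfl⟩ := hk
  refine ⟨c * n, ?_, mul_mem (hCN hc) hn, fun a ha => ?_⟩
  · rw [show c * n = s⁻¹ * (s * c * n) by group]
    exact mul_mem (inv_mem (le_normalizer hs)) hknS
  · have := mem_centralizer_iff.1 hc _ (conj_mem_of hn ha)
    calc c * n * a * (c * n)⁻¹ = c * (n * a * n⁻¹) * c⁻¹ := by group
      _ = n * a * n⁻¹ := by rw [← this, mul_inv_cancel_right]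

/-- The part of an axis whose conjugates in its normaliser are all central in `S`. -/
def coreCen (S A : Subgroup G) : Subgroup G where
  carrier := {a | ∀ m ∈ normalizer (A : Set G), m * a * m⁻¹ ∈ cen S}
  one_mem' := fun m _ => by simp
  mul_mem' := fun {a b} ha hb m hm => by
    rw [show m * (a * b) * m⁻¹ = m * a * m⁻¹ * (m * b * m⁻¹) by group]
    exact mul_mem (ha m hm) (hb m hm)
  inv_mem' := fun {a} ha m hm => by
    rw [show m * a⁻¹ * m⁻¹ = (m * a * m⁻¹)⁻¹ by group]
    exact inv_mem (ha m hm)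

theorem coreCen_le (S A : Subgroup G) : coreCen S A ≤ cen S := fun a ha => by
  simpa using ha 1 (one_mem _)

theorem conj_mem_coreCen {S A : Subgroup G} {n a : G} (hn : n ∈ normalizer (A : Set G))
    (ha : a ∈ coreCen S A) : n * a * n⁻¹ ∈ coreCen S A := fun m hm => by
  rw [show m * (n * a * n⁻¹) * m⁻¹ = m * n * a * (m * n)⁻¹ by group]
  exact ha _ (mul_mem hm hn)

/-- The structure of an active axis. -/
structure Split (S A : Subgroup G) (z v : G) : Prop where
  v_mem : v ∈ A
  v_notMem : v ∉ cen S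
  v_sq : v * v = 1
  invariant : ∀ m ∈ normalizer (A : Set G), ∀ w ∈ closure ({z, v} : Set G),
    m * w * m⁻¹ ∈ closure ({z, v} : Set G)
  z_notMem : z ∉ coreCen S A
  decomp : ∀ a ∈ A, ∃ w ∈ closure ({z, v} : Set G), w⁻¹ * a ∈ coreCen S A

theorem exists_split (B : Base (S : Subgroup G) z) {x : G} (hx : x ∈ S)
    (hxc : x ∉ cen (S : Subgroup G)) (hact : Active (S : Subgroup G) z x) :
    ∃ v, Split (S : Subgroup G) (axis (S : Subgroup G) x) z v := by
  set A := axis (S : Subgroup G) x with hA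
  set Z := cen (S : Subgroup G) with hZ
  obtain ⟨m, hm, hmz⟩ := hact
  obtain ⟨s, hs, hsA⟩ := B.exists_outside hx hxc
  have hsm := axis_small B hx hxc
  have h0 := trans_base B hx hxc hs hsA
  have h1 := h0.conj hm
  set v := m * z * m⁻¹ with hv
  set t := m * s * m⁻¹ with ht
  have hsv : s * v * s⁻¹ = v * z := Trans.fix_iff hsm h1 h0 hmz
  have htz : t * z * t⁻¹ = z * v := Trans.fix_iff hsm h0 h1 (Ne.symm hmz)
  have hvc : v ∉ Z := fun h => by
    rw [cen_comm h hs, mul_inv_cancel_right] at hsv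
    exact B.z_ne (mul_left_cancel (a := v) (by rw [← hsv, mul_one]))
  have hvV : v ∈ closure ({z, v} : Set G) := subset_closure (by simp)
  have hzV : z ∈ closure ({z, v} : Set G) := subset_closure (by simp)
  have hthird : ∀ m' ∈ normalizer (A : Set G),
      m' * z * m'⁻¹ = z ∨ m' * z * m'⁻¹ = v ∨ m' * z * m'⁻¹ = v * z := fun m' hm' =>
    Trans.third hsm h0 h1 (h0.conj hm') (Ne.symm hmz)
  have hV : ∀ m' ∈ normalizer (A : Set G), m' * z * m'⁻¹ ∈ closure ({z, v} : Set G) :=
    fun m' hm' => by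
      rcases hthird m' hm' with e | e | e <;> rw [e]
      · exact hzV
      · exact hvV
      · exact mul_mem hvV hzV
  refine ⟨v, h1.c_mem, hvc, h1.c_sq, fun n hn w hw => ?_, fun h => hvc (h m hm), fun a ha => ?_⟩
  · induction hw using closure_induction with
    | mem w hw =>
      rcases hw with rfl | rfl
      · exact hV n hn
      · rw [show n * (m * z * m⁻¹) * n⁻¹ = n * m * z * (n * m)⁻¹ by group]
        exact hV _ (mul_mem hn hm)
    | one => simp
    | mul a b _ _ iha ihb =>
      rw [show n * (a * b) * n⁻¹ = n * a * n⁻¹ * (n * b * n⁻¹) by group]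
      exact mul_mem iha ihb
    | inv a _ iha =>
      rw [show n * a⁻¹ * n⁻¹ = (n * a * n⁻¹)⁻¹ by group]
      exact inv_mem iha
  · -- an element fixed by two transvections is fixed by all conjugates
    have key : ∀ a ∈ A, s * a * s⁻¹ = a → t * a * t⁻¹ = a →
        a ∈ coreCen (S : Subgroup G) A := by
      intro a ha hsa hta m' hm'
      set t' := m'⁻¹ * s * m'⁻¹⁻¹ with ht'
      have hm'i := inv_mem hm'
      have hfix : t' * a * t'⁻¹ = a := by
        rcases hthird _ hm'i with e | e | e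
        · have h' := h0.conj hm'i; rw [e] at h'
          rw [Trans.same hsm h' h0 a ha, hsa]
        · have h' := h0.conj hm'i; rw [e] at h'
          rw [Trans.same hsm h' h1 a ha, hta]
        · have h' := h0.conj hm'i; rw [e] at h'
          have h2 := h1.conj h0.mem; rw [hsv] at h2
          rw [Trans.same hsm h' h2 a ha]
          have hsa' : s⁻¹ * a * s = a := by
            calc s⁻¹ * a * s = s⁻¹ * (s * a * s⁻¹) * s := by rw [hsa]
              _ = a := by group
          calc s * t * s⁻¹ * a * (s * t * s⁻¹)⁻¹ = s * (t * (s⁻¹ * a * s) * t⁻¹) * s⁻¹ := by group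
            _ = a := by rw [hsa', hta, hsa]
      have hb : m' * a * m'⁻¹ ∈ A := conj_mem_of hm' ha
      have hsb : s * (m' * a * m'⁻¹) * s⁻¹ = m' * a * m'⁻¹ := by
        calc s * (m' * a * m'⁻¹) * s⁻¹ = m' * (t' * a * t'⁻¹) * m'⁻¹ := by rw [ht']; group
          _ = _ := by rw [hfix]
      by_contra hbc
      have hab := B.axis_eq hx hb hbc
      exact B.not_commute (B.axis_le hx hb) hs hbc (by rw [hab]; exact hsA)
        (mul_inv_eq_iff_eq_mul.1 hsb).symm
    -- first into the centre, then into the fixed part of `t`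
    obtain ⟨w₁, hw₁, hb⟩ : ∃ w ∈ closure ({z, v} : Set G), w⁻¹ * a ∈ Z := by
      rcases (B.mem_axis hx).1 ha with h | h
      · exact ⟨1, one_mem _, by simpa using h⟩
      · refine ⟨v, hvV, ?_⟩
        have hxv : x⁻¹ * v ∈ Z := ((B.mem_axis hx).1 h1.c_mem).resolve_left hvc
        rw [show v⁻¹ * a = (x⁻¹ * v)⁻¹ * (x⁻¹ * a) by group]
        exact mul_mem (inv_mem hxv) h
    set b := w₁⁻¹ * a with hbdef
    have hsb : s * b * s⁻¹ = b := by rw [cen_comm hb hs, mul_inv_cancel_right]
    rcases h1.act b (Base.cen_le_axis _ _ hb) with e | e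
    · exact ⟨w₁, hw₁, key b (Base.cen_le_axis _ _ hb) hsb e⟩
    · refine ⟨w₁ * z, mul_mem hw₁ hzV, ?_⟩
      have hbz : z⁻¹ * b ∈ Z := mul_mem (inv_mem B.z_mem) hb
      rw [show (w₁ * z)⁻¹ * a = z⁻¹ * b by rw [hbdef]; group]
      refine key _ (Base.cen_le_axis _ _ hbz) (by rw [cen_comm hbz hs, mul_inv_cancel_right]) ?_
      rw [show t * (z⁻¹ * b) * t⁻¹ = (t * z * t⁻¹)⁻¹ * (t * b * t⁻¹) by group, htz, e]
      have hzv : z * v = v * z := hsm.comm _ (mem_sup_left B.z_mem) _ h1.c_mem
      have hbv : b * v = v * b := hsm.comm _ (Base.cen_le_axis _ _ hb) _ h1.c_mem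
      rw [hzv, hbv]
      group

end Cfsg.Agent.Lib.CenterIndexFour70
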