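import Cfsg.Agent.Lib.CenterIndexFour70.Simple
import Cfsg.Agent.Lib.Transfer.Hall
import Cfsg.Agent.Lib.GorensteinWalter.Wiring
import Cfsg.Agent.Lib.Walter.InterfaceFacts
import Cfsg.Agent.Lib.ExactCover.Alt7
import Cfsg.Agent.Lib.Multiplier.Basic

/-!
Quasisimple groups whose non-abelian Sylow 2-subgroups have centre of index four, from the theorems
of Gorenstein–Walter and of Walter.
-/

set_option autoImplicit false
set_option linter.unusedSectionVars false
set_option linter.style.haveILetI false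

universe u

namespace Cfsg.Agent.Lib.CenterIndexFour70

open Subgroup
open scoped commutatorElement

variable {G : Type u} [Group G] [Finite G]

theorem cen_eq_map (S : Subgroup G) : cen S = (center S).map S.subtype := by
  ext c
  constructor
  · exact fun h => ⟨⟨c, h.1⟩, mem_center_iff.2 fun s => Subtype.ext (cen_comm h s.2), rfl⟩
  · rintro ⟨c, hc, rfl⟩
    exact mem_cen_iff.2 ⟨c.2, fun s hs => congrArg Subtype.val (mem_center_iff.1 hc ⟨s, hs⟩)⟩

theorem mem_center_of_cen {S : Subgroup G} {c : S} : c ∈ center S ↔ (c : G) ∈ cen S := by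
  rw [cen_eq_map, show (c : G) = S.subtype c from rfl,
    Subgroup.mem_map_iff_mem S.subtype_injective]

theorem base_of_index (S : Subgroup G) (hna : ¬ IsMulCommutative S) (h4 : (center S).index = 4) :
    ∃ z, Base S z := by
  have hq : Nat.card (S ⧸ center S) = 4 := h4
  have hsq' : ∀ q : S ⧸ center S, q * q = 1 := by
    intro q
    by_contra hne
    have h1 : orderOf q ∣ 4 := hq ▸ orderOf_dvd_natCard q
    have h2 : orderOf q = 4 := by
      have := Nat.le_of_dvd (by norm_num) h1
      have hne' : ¬ orderOf q ∣ 2 := fun h => hne (by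
        rw [← pow_two]; exact orderOf_dvd_iff_pow_eq_one.1 h)
      interval_cases hk : orderOf q <;> simp_all
    haveI : IsCyclic (S ⧸ center S) := isCyclic_of_orderOf_eq_card q (by rw [h2, hq])
    exact hna ((QuotientGroup.mk' (center S)).isMulCommutative_of_isCyclic_of_ker_le_center
      (QuotientGroup.ker_mk' _).le)
  have hcomm' : ∀ p q : S ⧸ center S, p * q = q * p := fun p q => by
    rw [← inv_eq_of_mul_eq_one_right (hsq' (p * q)), mul_inv_rev,
      inv_eq_of_mul_eq_one_right (hsq' p), inv_eq_of_mul_eq_one_right (hsq' q)]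
  have hmem : ∀ {w : G} (hw : w ∈ S), w ∈ cen S ↔ ((⟨w, hw⟩ : S) : S ⧸ center S) = 1 :=
    fun {w} hw => (mem_center_of_cen (c := ⟨w, hw⟩)).symm.trans (QuotientGroup.eq_one_iff _).symm
  have hsq : ∀ x ∈ S, x * x ∈ cen S := fun x hx => (hmem (mul_mem hx hx)).2 (hsq' (⟨x, hx⟩ : S))
  have hinv : ∀ x ∈ S, ∀ w, x * w ∈ cen S → x⁻¹ * w ∈ cen S := fun x hx w h => by
    rw [show x⁻¹ * w = (x * x)⁻¹ * (x * w) by group]
    exact mul_mem (inv_mem (hsq x hx)) h
  have hcover : ∀ x ∈ S, ∀ y ∈ S, x ∉ cen S → y ∉ cen S → x * y ∉ cen S →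
      ∀ w ∈ S, w ∈ cen S ∨ x * w ∈ cen S ∨ y * w ∈ cen S ∨ (x * y)⁻¹ * w ∈ cen S := by
    intro x hx y hy hxc hyc hxy w hw
    set X : S ⧸ center S := ((⟨x, hx⟩ : S) : S ⧸ center S) with hX
    set Y : S ⧸ center S := ((⟨y, hy⟩ : S) : S ⧸ center S) with hY
    have hX1 : X ≠ 1 := fun h => hxc ((hmem hx).2 h)
    have hY1 : Y ≠ 1 := fun h => hyc ((hmem hy).2 h)
    have hXY1 : X * Y ≠ 1 := fun h => hxy ((hmem (mul_mem hx hy)).2 h)
    have hne : X ≠ Y := fun h => hXY1 (h ▸ hsq' Y)
    let f : Fin 4 → S ⧸ center S := ![1, X, Y, X * Y]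
    have hf : Function.Injective f := by
      intro i j h
      fin_cases i <;> fin_cases j <;>
        simp [f, hX1, hY1, hXY1, hne, Ne.symm hne, Ne.symm hX1, Ne.symm hY1, Ne.symm hXY1] at h ⊢
    obtain ⟨i, hi⟩ := (hf.bijective_of_nat_card_le (by rw [hq, Nat.card_fin])).2
      ((⟨w, hw⟩ : S) : S ⧸ center S)
    fin_cases i <;> simp only [f] at hi
    · exact Or.inl ((hmem hw).2 hi.symm)
    · refine Or.inr (Or.inl ((hmem (mul_mem hx hw)).2 ?_))
      show X * ((⟨w, hw⟩ : S) : S ⧸ center S) = 1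
      rw [← hi]; exact hsq' X
    · refine Or.inr (Or.inr (Or.inl ((hmem (mul_mem hy hw)).2 ?_)))
      show Y * ((⟨w, hw⟩ : S) : S ⧸ center S) = 1
      rw [← hi]; exact hsq' Y
    · refine Or.inr (Or.inr (Or.inr ((hmem (mul_mem (inv_mem (mul_mem hx hy)) hw)).2 ?_)))
      show (X * Y)⁻¹ * ((⟨w, hw⟩ : S) : S ⧸ center S) = 1
      rw [← hi]; exact inv_mul_cancel _
  -- the commutator pairing
  set f : G → G → G := fun x y => y⁻¹ * x * y * x⁻¹ with hf
  have fC : ∀ x ∈ S, ∀ y ∈ S, f x y ∈ cen S := fun x hx y hy => by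
    refine (hmem (mul_mem (mul_mem (mul_mem (inv_mem hy) hx) hy) (inv_mem hx))).2 ?_
    show ((⟨y, hy⟩ : S) : S ⧸ center S)⁻¹ * ((⟨x, hx⟩ : S) : S ⧸ center S) *
      ((⟨y, hy⟩ : S) : S ⧸ center S) * ((⟨x, hx⟩ : S) : S ⧸ center S)⁻¹ = 1
    rw [hcomm' _ ((⟨x, hx⟩ : S) : S ⧸ center S)]
    group
  have fmr : ∀ x ∈ S, ∀ y ∈ S, ∀ y' ∈ S, f x (y * y') = f x y * f x y' := fun x hx y hy y' hy' => by
    have e := cen_comm (fC x hx y hy) (inv_mem hy')
    calc f x (y * y') = (y'⁻¹ * f x y) * x * y' * x⁻¹ := by simp only [hf]; group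
      _ = f x y * f x y' := by rw [e]; simp only [hf]; group
  have fml : ∀ x ∈ S, ∀ x' ∈ S, ∀ y ∈ S, f (x * x') y = f x y * f x' y :=
    fun x hx x' hx' y hy => by
    have e := cen_comm (fC x' hx' y hy) (inv_mem hx)
    calc f (x * x') y = y⁻¹ * x * y * (f x' y * x⁻¹) := by simp only [hf]; group
      _ = y⁻¹ * x * y * (x⁻¹ * f x' y) := by rw [e]
      _ = f x y * f x' y := by simp only [hf]; group
  have fcr : ∀ x ∈ S, ∀ c ∈ cen S, f x c = 1 := fun x hx c hc => by
    show c⁻¹ * x * c * x⁻¹ = 1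
    rw [mul_assoc c⁻¹ x c, cen_comm hc hx]; group
  have fcl : ∀ y ∈ S, ∀ c ∈ cen S, f c y = 1 := fun y hy c hc => by
    show y⁻¹ * c * y * c⁻¹ = 1
    rw [mul_assoc y⁻¹ c y, ← cen_comm hc hy]; group
  have fself : ∀ x : G, f x x = 1 := fun x => by simp only [hf]; group
  obtain ⟨a, ha, b, hb, hab⟩ : ∃ a ∈ S, ∃ b ∈ S, a * b ≠ b * a := by
    by_contra h
    push Not at h
    exact hna ⟨⟨fun p q => Subtype.ext (h p p.2 q q.2)⟩⟩
  have hac : a ∉ cen S := fun h => hab (cen_comm h hb).symm
  have hbc : b ∉ cen S := fun h => hab (cen_comm h ha)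
  have habc : a * b ∉ cen S := fun h => hab (by
    have e := cen_comm h ha
    exact mul_left_cancel (a := a) (e.trans (by group)))
  set z := f a b with hz
  have hzsq : z * z = 1 := by rw [hz, ← fmr a ha b hb b hb]; exact fcr a ha _ (hsq b hb)
  have hba : f b a = z := by
    have h := fml a ha b hb (a * b) (mul_mem ha hb)
    rw [fself, fmr a ha a ha b hb, fmr b hb a ha b hb, fself, fself, one_mul, mul_one, ← hz] at h
    rw [← inv_eq_of_mul_eq_one_right hzsq]
    exact eq_inv_of_mul_eq_one_right h.symm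
  have hdec : ∀ w ∈ S, ∃ v, (v = 1 ∨ v = a ∨ v = b ∨ v = a * b) ∧ v⁻¹ * w ∈ cen S := fun w hw => by
    rcases hcover a ha b hb hac hbc habc w hw with h | h | h | h
    · exact ⟨1, Or.inl rfl, by simpa using h⟩
    · exact ⟨a, Or.inr (Or.inl rfl), hinv a ha w h⟩
    · exact ⟨b, Or.inr (Or.inr (Or.inl rfl)), hinv b hb w h⟩
    · exact ⟨a * b, Or.inr (Or.inr (Or.inr rfl)), h⟩
  refine ⟨z, ⟨⟨a, ha, b, hb, hab⟩, fC a ha b hb, fun h => hab ?_, hzsq, fun x hx y hy => ?_, hsq,
    hcover⟩⟩
  · calc a * b = b * z * a := by rw [hz, hf]; group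
      _ = b * a := by rw [h, mul_one]
  · suffices h : f x y = 1 ∨ f x y = z by
      have e : x * y * x⁻¹ = y * f x y := by simp only [hf]; group
      exact h.imp (fun h => by rw [e, h, mul_one]) fun h => by rw [e, h]
    obtain ⟨v, hv, hvx⟩ := hdec x hx
    obtain ⟨v', hv', hvy⟩ := hdec y hy
    have hvS : v ∈ S := by
      rcases hv with e | e | e | e <;> rw [e] <;> first | exact one_mem _ | assumption | exact mul_mem ha hb
    have hvS' : v' ∈ S := by
      rcases hv' with e | e | e | e <;> rw [e] <;> first | exact one_mem _ | assumption | exact mul_mem ha hb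
    rw [show x = v * (v⁻¹ * x) by group, fml v hvS _ hvx.1 y hy, fcl y hy _ hvx, mul_one,
      show y = v' * (v'⁻¹ * y) by group, fmr v hvS v' hvS' _ hvy.1, fcr v hvS _ hvy, mul_one]
    have q1 : f 1 a = 1 ∧ f 1 b = 1 ∧ f 1 (a * b) = 1 ∧ f a 1 = 1 ∧ f b 1 = 1 ∧ f (a * b) 1 = 1 :=
      ⟨fcl a ha 1 (one_mem _), fcl b hb 1 (one_mem _), fcl _ (mul_mem ha hb) 1 (one_mem _),
        fcr a ha 1 (one_mem _), fcr b hb 1 (one_mem _), fcr _ (mul_mem ha hb) 1 (one_mem _)⟩
    rcases hv with e | e | e | e <;> rcases hv' with e' | e' | e' | e' <;> rw [e, e'] <;>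
      simp [q1, fml a ha b hb, fmr a ha a ha b hb, fmr b hb a ha b hb,
        fmr (a * b) (mul_mem ha hb) a ha b hb,
        fself, ← hz, hba, hzsq, ha, hb]

theorem commutator_le_pair {S : Subgroup G} {z : G} (B : Base S z) {w : G}
    (hw : w ∈ ⁅S, S⁆) : w = 1 ∨ w = z := by
  have h : ⁅S, S⁆ ≤ zpowers z := commutator_le.2 fun x hx y hy => by
    rw [commutatorElement_def]
    rcases B.comm x hx y hy with e | e <;> rw [e]
    · simp
    · rw [mul_assoc, ← cen_comm B.z_mem (inv_mem hy), ← mul_assoc, mul_inv_cancel, one_mul]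
      exact mem_zpowers z
  obtain ⟨k, rfl⟩ := h hw
  have h2 : z ^ (2 : ℤ) = 1 := by rw [show (2 : ℤ) = 1 + 1 by norm_num, zpow_add, zpow_one, B.z_sq]
  rcases Int.even_or_odd k with ⟨j, rfl⟩ | ⟨j, rfl⟩
  · left; show z ^ (j + j) = 1; rw [← two_mul, zpow_mul, h2, one_zpow]
  · right; show z ^ (2 * j + 1) = z; rw [zpow_add, zpow_mul, h2, one_zpow, zpow_one, one_mul]

theorem hasDihedralSylow_of {Q : Type u} [Group Q] [Finite Q] (S : Sylow 2 Q) {n : ℕ} (hn : 2 ≤ n)
    (e : Nonempty ((S : Subgroup Q) ≃* DihedralGroup n)) : GorensteinWalter.HasDihedralSylow Q :=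
  fun T => ⟨n, hn, e.map fun e => (Sylow.equiv T S).trans e⟩

/-- Quasisimple groups with a non-abelian Sylow 2-subgroup with centre of index four. -/
theorem main (hM : GorensteinWalter.PropMain.{u}) (hW : Walter.PropKnown.{u})
    (hL : Walter.PropKnownFacts.{u}) (hq : Cfsg.IsQuasisimple G) (P : Sylow 2 G)
    (hna : ¬ IsMulCommutative (P : Subgroup G)) (hZ : (center (P : Subgroup G)).index = 4) :
    Nat.card (P : Subgroup G) = 8 ∧
      (Nonempty (G ≃* alternatingGroup (Fin 7)) ∨
        (Nat.card (center G) = 3 ∧ Nonempty (G ⧸ center G ≃* alternatingGroup (Fin 7))) ∨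
        ∃ (F : Type) (_ : Field F) (_ : Fintype F), Odd (Fintype.card F) ∧
          Nonempty (G ⧸ center G ≃* Matrix.ProjectiveSpecialLinearGroup (Fin 2) F)) := by
  haveI : Fact (Nat.Prime 2) := ⟨Nat.prime_two⟩
  obtain ⟨hperf, hsimp⟩ := hq
  haveI := hperf
  haveI := hsimp
  set π := QuotientGroup.mk' (center G) with hπ
  have hπs : Function.Surjective π := QuotientGroup.mk'_surjective _
  have hπ1 : ∀ w, π w = 1 ↔ w ∈ center G := fun w => QuotientGroup.eq_one_iff w
  obtain ⟨z, B⟩ := base_of_index (P : Subgroup G) hna hZ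
  have hnaQ : ¬ IsMulCommutative (G ⧸ center G) := fun h => hna ⟨⟨fun p q => Subtype.ext (by
    have h1 : commutator G ≤ center G := by
      rw [_root_.commutator_def, commutator_le]
      intro x _ y _
      rw [← hπ1, map_commutatorElement, commutatorElement_eq_one_iff_mul_comm]
      exact h.is_comm.comm _ _
    rw [Group.IsPerfect.commutator_eq_top] at h1
    exact (mem_center_iff.1 (h1 (mem_top (p : G))) q).symm)⟩⟩
  have hZ2 : ∀ w ∈ (P : Subgroup G), w ∈ center G → w = 1 ∨ w = z := fun w hw hc =>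
    commutator_le_pair B (Transfer.Hall.mem_commutator_of_mem_center (P : Subgroup G)
      ((P.card_coprime_index).symm.coprime_dvd_right (Subgroup.relIndex_dvd_card _ _)) hw
      (by rw [Group.IsPerfect.commutator_eq_top]; exact mem_top _) hc)
  let Pb : Sylow 2 (G ⧸ center G) := P.mapSurjective hπs
  have hPb : (Pb : Subgroup (G ⧸ center G)) = (P : Subgroup G).map π := rfl
  by_cases hab : IsMulCommutative (Pb : Subgroup (G ⧸ center G))
  · -- abelian Sylow subgroups of the central quotient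
    have habS : Walter.AbelianSylow (G ⧸ center G) := fun T =>
      let e := Sylow.equiv T Pb
      ⟨⟨fun p q => e.injective (by rw [map_mul, map_mul]; exact hab.is_comm.comm _ _)⟩⟩
    have hf := hL.1 _ (hW _ hsimp hnaQ habS)
    obtain ⟨n, hn, -, htr⟩ := hf.torus Pb
    obtain ⟨g, rfl⟩ := hπs n
    have hgP : g ∈ normalizer ((P : Subgroup G) : Set G) := by
      refine Fusion.Alperin.mem_normalizer_of_conjS_eq (eq_of_le_of_card_ge ?_
        (Fusion.Alperin.card_conjS g _).ge)
      have hle : Fusion.Alperin.conjS g (P : Subgroup G) ≤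
          normalizer ((P : Subgroup G) : Set G) := by
        rintro w ⟨p, hp, rfl⟩
        have := (mem_normalizer_iff.1 hn (π p)).1 (hPb.ge ⟨p, hp, rfl⟩)
        rw [← map_inv, ← map_mul, ← map_mul, hPb] at this
        obtain ⟨q, hq, e⟩ := this
        show g * p * g⁻¹ ∈ _
        rw [show g * p * g⁻¹ = q * (q⁻¹ * (g * p * g⁻¹)) by group]
        refine mul_mem (le_normalizer hq) (Subgroup.center_le_normalizer (s := ((P : Subgroup G) : Set G)) ?_)
        rw [← hπ1, map_mul, map_inv, e, inv_mul_cancel]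
      have h1 : IsPGroup 2 (Fusion.Alperin.conjS g (P : Subgroup G) ⊔ (P : Subgroup G) : Subgroup G) :=
        (P.2.map _).to_sup_of_normal_right' P.2 hle
      exact le_sup_left.trans (P.3 h1 le_sup_right).le
    have hinv : ∀ k : ℕ, ∀ c ∈ cen (P : Subgroup G),
        π g ^ k * π c * (π g ^ k)⁻¹ ∈ (cen (P : Subgroup G)).map π := fun k c hc =>
      ⟨g ^ k * c * (g ^ k)⁻¹, conj_mem_cen (pow_mem hgP k) hc, by simp only [map_mul, map_inv, map_pow]⟩
    have hcz : ∀ c ∈ cen (P : Subgroup G), c = 1 ∨ c = z := by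
      intro c hc
      refine hZ2 c hc.1 ((hπ1 c).1 (by_contra fun hne => hna ?_))
      have hall : ∀ p ∈ (P : Subgroup G), p ∈ cen (P : Subgroup G) := by
        intro p hp
        have : π p ∈ (cen (P : Subgroup G)).map π := by
          by_cases h1 : π p = 1
          · rw [h1]; exact one_mem _
          obtain ⟨k, hk⟩ := htr (π c) (hPb.ge ⟨c, hc.1, rfl⟩) hne (π p) (hPb.ge ⟨p, hp, rfl⟩) h1
          exact hk ▸ hinv k c hc
        obtain ⟨d, hd, e⟩ := this
        rw [show p = d * (d⁻¹ * p) by group]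
        refine mul_mem hd (mem_cen_iff.2 ⟨mul_mem (inv_mem hd.1) hp, fun s _ => ?_⟩)
        exact mem_center_iff.1 ((hπ1 _).1 (by rw [map_mul, map_inv, e, inv_mul_cancel])) s
      exact ⟨⟨fun p q => Subtype.ext (cen_comm (hall q q.2) p.2)⟩⟩
    have hzc : z ∈ center G := by
      by_contra h
      obtain ⟨a, ha, b, hb, hne⟩ := B.hna
      have e := (B.comm a ha b hb).resolve_left fun e => hne (mul_inv_eq_iff_eq_mul.1 e)
      apply h
      rw [← hπ1, show z = b⁻¹ * (a * b * a⁻¹) by rw [e]; group, map_mul, map_mul, map_mul, map_inv,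
        map_inv]
      have hcm : π a * π b = π b * π a := congrArg Subtype.val
        (hab.is_comm.comm ⟨π a, hPb.ge ⟨a, ha, rfl⟩⟩ ⟨π b, hPb.ge ⟨b, hb, rfl⟩⟩)
      rw [hcm]; group
    have hcen2 : Nat.card (cen (P : Subgroup G)) = 2 := by
      have : (cen (P : Subgroup G) : Set G) = {1, z} := by
        ext c
        refine ⟨fun h => hcz c h, ?_⟩
        rintro (rfl | rfl)
        · exact one_mem _
        · exact B.z_mem
      rw [← SetLike.coe_sort_coe, Nat.card_coe_set_eq, this, Set.ncard_pair B.z_ne.symm]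
    have h8 : Nat.card (P : Subgroup G) = 8 := by
      rw [← Subgroup.index_mul_card (center (P : Subgroup G)), hZ,
        ← Subgroup.card_map_of_injective (K := center (P : Subgroup G))
          (P : Subgroup G).subtype_injective, ← cen_eq_map, hcen2]
    have hker : (π.subgroupMap (P : Subgroup G)).ker = center (P : Subgroup G) := by
      ext p
      rw [MonoidHom.mem_ker, mem_center_of_cen]
      constructor
      · intro h
        have h' : π (p : G) = 1 := congrArg Subtype.val h
        exact mem_cen_iff.2 ⟨p.2, fun s _ => mem_center_iff.1 ((hπ1 _).1 h') s⟩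
      · intro h
        refine Subtype.ext ((hπ1 _).2 ?_)
        rcases hcz _ h with e | e <;> rw [e]
        · exact one_mem _
        · exact hzc
    have h4 : Nat.card (Pb : Subgroup (G ⧸ center G)) = 4 := by
      rw [hPb, ← hZ, ← hker]
      exact (Nat.card_congr (QuotientGroup.quotientKerEquivOfSurjective _
        (π.subgroupMap_surjective _)).toEquiv).symm
    haveI : IsKleinFour (Pb : Subgroup (G ⧸ center G)) :=
      TwoGroups.Recognition.isKleinFour_of_card h4 fun w hw =>
        (pow_two w).symm.trans ((hf.elementary Pb).2 w hw)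
    have hd : GorensteinWalter.HasDihedralSylow (G ⧸ center G) :=
      hasDihedralSylow_of Pb le_rfl IsKleinFour.nonempty_mulEquiv
    refine ⟨h8, Or.inr (Or.inr ?_)⟩
    rcases GorensteinWalter.known_of_propMain hM _ hsimp hnaQ hd with
      ⟨F, hF, hF', ho, -, he⟩ | ⟨⟨e⟩⟩
    · exact ⟨F, hF, hF', ho, he⟩
    · exfalso
      have h1 := Sylow.card_eq_multiplicity Pb
      rw [h4, Nat.card_congr e.toEquiv, Nat.card_eq_fintype_card, card_alternatingGroup,
        Fintype.card_fin] at h1
      have h2 : (Nat.factorial 7 / 2).factorization 2 = 3 := by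
        rw [show Nat.factorial 7 / 2 = 2 ^ 3 * 315 by decide, Nat.factorization_mul (by norm_num)
          (by norm_num), Finsupp.add_apply, Nat.Prime.factorization_pow Nat.prime_two]
        simp [Nat.factorization_eq_zero_of_not_dvd (show ¬ 2 ∣ 315 by norm_num)]
      rw [h2] at h1
      norm_num at h1
  · -- the Sylow subgroup of the central quotient is non-abelian
    have hz : z ∉ center G := by
      intro hzc
      refine hab ⟨⟨?_⟩⟩
      rintro ⟨p, hp⟩ ⟨q, hq⟩
      obtain ⟨p, hp', rfl⟩ := hPb.le hp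
      obtain ⟨q, hq', rfl⟩ := hPb.le hq
      refine Subtype.ext ?_
      show π p * π q = π q * π p
      rcases B.comm p hp' q hq' with e | e <;> rw [← map_mul, ← map_mul, mul_inv_eq_iff_eq_mul.1 e]
      rw [map_mul, map_mul, (hπ1 z).2 hzc, mul_one, ← map_mul]
    have hker : ∀ p ∈ (P : Subgroup G), π p = 1 → p = 1 := fun p hp h =>
      (hZ2 p hp ((hπ1 p).1 h)).resolve_right fun e => hz (e ▸ (hπ1 p).1 h)
    have hbij : Function.Bijective (π.subgroupMap (P : Subgroup G)) := by
      refine ⟨(injective_iff_map_eq_one _).2 fun p h => ?_, π.subgroupMap_surjective _⟩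
      exact Subtype.ext (hker _ p.2 (congrArg Subtype.val h))
    let e : (P : Subgroup G) ≃* (Pb : Subgroup (G ⧸ center G)) :=
      (MulEquiv.ofBijective _ hbij).trans (MulEquiv.subgroupCongr hPb.symm)
    have hPb4 : (center (Pb : Subgroup (G ⧸ center G))).index = 4 := by
      have hc : (center (P : Subgroup G)).map e.toMonoidHom =
          center (Pb : Subgroup (G ⧸ center G)) := by
        ext p
        rw [mem_map_equiv, mem_center_iff, mem_center_iff]
        constructor
        · intro h q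
          simpa using congrArg e (h (e.symm q))
        · intro h q
          exact e.injective (by simpa using h (e q))
      rw [← hc, ← hZ]
      exact Subgroup.index_map_equiv _ e
    obtain ⟨z', B'⟩ := base_of_index (Pb : Subgroup (G ⧸ center G)) hab hPb4
    obtain ⟨d⟩ := dihedral_of_simple B' hsimp hnaQ
    have h8 : Nat.card (P : Subgroup G) = 8 := by
      rw [Nat.card_congr (e.trans d).toEquiv, DihedralGroup.nat_card]
    refine ⟨h8, ?_⟩
    rcases GorensteinWalter.known_of_propMain hM _ hsimp hnaQ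
        (hasDihedralSylow_of Pb (by norm_num : 2 ≤ 4) ⟨d⟩) with
      ⟨F, hF, hF', ho, -, he⟩ | ⟨⟨f⟩⟩
    · exact Or.inr (Or.inr ⟨F, hF, hF', ho, he⟩)
    have hodd : ¬ 2 ∣ Nat.card (center G) := by
      intro h2
      obtain ⟨c, hc⟩ := exists_prime_orderOf_dvd_card' 2 h2
      have hc2 : orderOf (c : G) = 2 := by rw [Subgroup.orderOf_coe, hc]
      have hcP : (c : G) ∈ (P : Subgroup G) := ProductFusion.mem_sylow_of_central P hc2 c.2
      have h1 := hker _ hcP ((hπ1 _).2 c.2)
      rw [h1, orderOf_one] at hc2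
      exact absurd hc2 (by norm_num)
    let σ : G →* alternatingGroup (Fin 7) := f.toMonoidHom.comp π
    have hσk : σ.ker = center G := by
      ext w
      rw [MonoidHom.mem_ker, ← hπ1]
      exact MulEquiv.map_eq_one_iff f
    have hσ : Cfsg.IsStemExtension σ :=
      ⟨f.surjective.comp hπs, hσk.le, by rw [Group.IsPerfect.commutator_eq_top]; exact le_top⟩
    obtain ⟨e6⟩ := Multiplier.mulEquiv_of_hasSchurMultiplier ExactCover.Alt7.multiplier
    obtain ⟨p, hp⟩ := Multiplier.exists_surjective_to_ker σ hσ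
    have hdvd : Nat.card (center G) ∣ 6 := by
      rw [← hσk]
      have := Subgroup.card_dvd_of_surjective p hp
      rwa [← Nat.card_congr e6.toEquiv, Nat.card_congr Multiplicative.toAdd, Nat.card_zmod] at this
    have hle := Nat.le_of_dvd (by norm_num) hdvd
    have hor : Nat.card (center G) = 1 ∨ Nat.card (center G) = 3 := by
      revert hdvd hodd
      interval_cases h : Nat.card (center G) <;> omega
    rcases hor with h1 | h3
    · have hinj : Function.Injective σ := (MonoidHom.ker_eq_bot_iff σ).1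
        (hσk ▸ Subgroup.eq_bot_of_card_eq _ h1)
      exact Or.inl ⟨MulEquiv.ofBijective σ ⟨hinj, hσ.1⟩⟩
    · exact Or.inr (Or.inl ⟨h3, ⟨f⟩⟩)

end Cfsg.Agent.Lib.CenterIndexFour70
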