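import Cfsg.Agent.Lib.CenterIndexFour70.Local
import Cfsg.Agent.Lib.ProductFusion.Main
import Cfsg.Agent.Lib.TwoGroups.Recognition
import Cfsg.Agent.Lib.Walter.Fusion
import Cfsg.Agent.S0215

/-!
A non-abelian Sylow 2-subgroup of a simple group with centre of index four is dihedral of order
eight.
-/

set_option autoImplicit false
set_option linter.unusedSectionVars false
set_option linter.style.haveILetI false

universe u

namespace Cfsg.Agent.Lib.CenterIndexFour70

open Subgroup

variable {G : Type u} [Group G] [Finite G] {S : Sylow 2 G} {z : G}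

local notation "Z" => cen (S : Subgroup G)
local notation "A" => axis (S : Subgroup G)
local notation "N" => normalizer ((S : Subgroup G) : Set G)

theorem conj_mem_S {n r : G} (hn : n ∈ N) (hr : r ∈ S) : n * r * n⁻¹ ∈ S :=
  (mem_normalizer_iff.1 hn r).1 hr

theorem fix_z (B : Base (S : Subgroup G) z) {n : G} (hn : n ∈ N) : n * z * n⁻¹ = z := by
  obtain ⟨a, ha, b, hb, hab⟩ := B.hna
  have hz : a * b * a⁻¹ = b * z :=
    (B.comm a ha b hb).resolve_left fun h => hab (mul_inv_eq_iff_eq_mul.1 h)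
  rcases B.comm _ (conj_mem_S hn ha) _ (conj_mem_S hn hb) with e | e
  · refine absurd ?_ B.z_ne
    have : n * (b * z) * n⁻¹ = n * b * n⁻¹ := by
      rw [← hz]; exact Eq.trans (by group) e
    calc z = b⁻¹ * n⁻¹ * (n * (b * z) * n⁻¹) * n := by group
      _ = 1 := by rw [this]; group
  · calc n * z * n⁻¹ = (n * b * n⁻¹)⁻¹ * (n * (b * z) * n⁻¹) := by group
      _ = (n * b * n⁻¹)⁻¹ * (n * a * n⁻¹ * (n * b * n⁻¹) * (n * a * n⁻¹)⁻¹) := by
        rw [← hz]; group
      _ = z := by rw [e]; group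

theorem conj_notMem_cen {n x : G} (hn : n ∈ N) (hxc : x ∉ Z) : n * x * n⁻¹ ∉ Z := fun h =>
  hxc (by
    have := conj_mem_cen (inv_mem hn) h
    rwa [show n⁻¹ * (n * x * n⁻¹) * n⁻¹⁻¹ = x by group] at this)

theorem conj_mem_axis (B : Base (S : Subgroup G) z) {n x a : G} (hn : n ∈ N) (hx : x ∈ S)
    (ha : a ∈ A x) : n * a * n⁻¹ ∈ A (n * x * n⁻¹) := by
  refine (B.mem_axis (conj_mem_S hn hx)).2 (((B.mem_axis hx).1 ha).imp (conj_mem_cen hn) fun h => ?_)
  rw [show (n * x * n⁻¹)⁻¹ * (n * a * n⁻¹) = n * (x⁻¹ * a) * n⁻¹ by group]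
  exact conj_mem_cen hn h

theorem Active.conj (B : Base (S : Subgroup G) z) {n x : G} (hn : n ∈ N) (hx : x ∈ S)
    (h : Active (S : Subgroup G) z x) : Active (S : Subgroup G) z (n * x * n⁻¹) := by
  obtain ⟨m, hm, hne⟩ := h
  refine ⟨n * m * n⁻¹, Fusion.RankTwoFusionSimple.mem_normalizer_of fun b hb => ?_, fun e => hne ?_⟩
  · have hb' := conj_mem_axis B (inv_mem hn) (conj_mem_S hn hx) hb
    rw [show n⁻¹ * (n * x * n⁻¹) * n⁻¹⁻¹ = x by group] at hb'
    have := conj_mem_axis B hn hx (conj_mem_of hm hb')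
    rw [show n * m * n⁻¹ * b * (n * m * n⁻¹)⁻¹ = n * (m * (n⁻¹ * b * n⁻¹⁻¹) * m⁻¹) * n⁻¹ by group]
    exact this
  · have h1 := fix_z B (inv_mem hn)
    calc m * z * m⁻¹ = n⁻¹ * (n * m * n⁻¹ * (n * z * n⁻¹) * (n * m * n⁻¹)⁻¹) * n⁻¹⁻¹ := by group
      _ = z := by rw [fix_z B hn, e, h1]

theorem mem_four (B : Base (S : Subgroup G) z) {x v w : G} (hx : x ∈ S)
    (h : Split (S : Subgroup G) (A x) z v) (hw : w ∈ closure ({z, v} : Set G)) :
    w = 1 ∨ w = z ∨ w = v ∨ w = v * z := by
  have hc : z * v = v * z := B.axis_comm hx (mem_sup_left B.z_mem) h.v_mem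
  have e1 : z * (v * z) = v := by rw [← mul_assoc, hc, mul_assoc, B.z_sq, mul_one]
  have e2 : v * (v * z) = z := by rw [← mul_assoc, h.v_sq, one_mul]
  have e3 : v * z * v = z := by rw [mul_assoc, hc, ← mul_assoc, h.v_sq, one_mul]
  have e4 : v * z * z = v := by rw [mul_assoc, B.z_sq, mul_one]
  have e5 : v * z * (v * z) = 1 := by rw [← mul_assoc, e3, B.z_sq]
  have e6 : (v * z)⁻¹ = v * z := inv_eq_of_mul_eq_one_right e5
  induction hw using closure_induction with
  | mem w hw => rcases hw with rfl | rfl <;> simp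
  | one => simp
  | mul a b _ _ iha ihb =>
    rcases iha with rfl | rfl | rfl | rfl <;> rcases ihb with rfl | rfl | rfl | rfl <;>
      simp [hc, B.z_sq, h.v_sq, e1, e2, e3, e4, e5]
  | inv a _ iha =>
    rcases iha with rfl | rfl | rfl | rfl <;>
      simp [B.z_inv, inv_eq_of_mul_eq_one_right h.v_sq, e6, -mul_inv_rev]

theorem four_inter_cen (B : Base (S : Subgroup G) z) {x v w : G} (hx : x ∈ S)
    (h : Split (S : Subgroup G) (A x) z v) (hw : w ∈ closure ({z, v} : Set G)) (hwc : w ∈ Z) :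
    w = 1 ∨ w = z := by
  rcases mem_four B hx h hw with e | e | e | e
  · exact Or.inl e
  · exact Or.inr e
  · exact absurd (e ▸ hwc) h.v_notMem
  · exact absurd (((cen (S : Subgroup G)).mul_mem_cancel_right B.z_mem).1 (e ▸ hwc)) h.v_notMem

theorem z_not_square (B : Base (S : Subgroup G) z) {x v c : G} (hx : x ∈ S)
    (h : Split (S : Subgroup G) (A x) z v) (hc : c ∈ Z) : c * c ≠ z := by
  obtain ⟨w, hw, hk⟩ := h.decomp c (mem_sup_left hc)
  have hkc := coreCen_le _ _ hk
  have hwc : w ∈ Z := by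
    rw [show w = c * (w⁻¹ * c)⁻¹ by group]
    exact mul_mem hc (inv_mem hkc)
  intro e
  refine h.z_notMem ?_
  rcases four_inter_cen B hx h hw hwc with rfl | rfl
  · rw [← e]
    simp only [inv_one, one_mul] at hk
    exact mul_mem hk hk
  · rw [← e, show c * c = w * (w⁻¹ * c) * (w * (w⁻¹ * c)) by group]
    have hcm : (w⁻¹ * c) * w = w * (w⁻¹ * c) := cen_comm B.z_mem hkc.1
    rw [show w * (w⁻¹ * c) * (w * (w⁻¹ * c)) = w * ((w⁻¹ * c) * w) * (w⁻¹ * c) by group, hcm,
      ← mul_assoc w w, B.z_sq, one_mul]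
    exact mul_mem hk hk

/-- Not all three axes are active. -/
theorem not_three (B : Base (S : Subgroup G) z) {x y w : G} (hx : x ∈ S) (hy : y ∈ S) (hw : w ∈ S)
    (hxc : x ∉ Z) (hyx : y ∉ A x) (hwx : w ∉ A x) (hwy : w ∉ A y)
    (h1 : Active (S : Subgroup G) z x) (h2 : Active (S : Subgroup G) z y)
    (h3 : Active (S : Subgroup G) z w) : False := by
  have hyc := B.notMem_cen_of hyx
  obtain ⟨a, Ha⟩ := exists_split B hx hxc h1
  obtain ⟨b, Hb⟩ := exists_split B hy hyc h2
  obtain ⟨u, Hu⟩ := exists_split B hw (B.notMem_cen_of hwx) h3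
  have haS := B.axis_le hx Ha.v_mem
  have hbS := B.axis_le hy Hb.v_mem
  have huS := B.axis_le hw Hu.v_mem
  have ea := B.axis_eq hx Ha.v_mem Ha.v_notMem
  have eb := B.axis_eq hy Hb.v_mem Hb.v_notMem
  have eu := B.axis_eq hw Hu.v_mem Hu.v_notMem
  have hba : b ∉ A a := fun h => hyx (by
    rw [← ea, ← B.axis_eq haS h Hb.v_notMem, eb]; exact Base.self_mem_axis _ y)
  have hua : u ∉ A a := fun h => hwx (by
    rw [← ea, ← B.axis_eq haS h Hu.v_notMem, eu]; exact Base.self_mem_axis _ w)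
  have hub : u ∉ A b := fun h => hwy (by
    rw [← eb, ← B.axis_eq hbS h Hu.v_notMem, eu]; exact Base.self_mem_axis _ w)
  rcases B.cover a haS b hbS Ha.v_notMem Hb.v_notMem (B.mul_notMem haS hba) u huS with h | h | h | h
  · exact Hu.v_notMem h
  · exact hua ((B.mem_axis haS).2 (Or.inr ((B.inv_mul_mem haS).2 h)))
  · exact hub ((B.mem_axis hbS).2 (Or.inr ((B.inv_mul_mem hbS).2 h)))
  · have hab : a * b * (a * b) = z := by
      have e := B.conj_eq haS hbS Ha.v_notMem hba
      calc a * b * (a * b) = a * (b * a * b⁻¹) * (b * b) := by group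
        _ = z := by rw [e, Hb.v_sq, mul_one, ← mul_assoc, Ha.v_sq, one_mul]
    set c := (a * b)⁻¹ * u with hc
    have hu2 := Hu.v_sq
    rw [show u = a * b * c by rw [hc]; group,
      show a * b * c * (a * b * c) = a * b * (c * (a * b)) * c by group,
      ← cen_comm h (mul_mem haS hbS), show a * b * (a * b * c) * c = a * b * (a * b) * (c * c) by group,
      hab] at hu2
    refine z_not_square B hx Ha h ?_
    rw [← inv_eq_of_mul_eq_one_right hu2, B.z_inv]

/-- The normaliser of `S` fixes an active axis. -/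
theorem axis_fixed (B : Base (S : Subgroup G) z) {x n : G} (hx : x ∈ S) (hxc : x ∉ Z)
    (hact : Active (S : Subgroup G) z x) (hn : n ∈ N) : n * x * n⁻¹ ∈ A x := by
  by_contra hne
  set y := n * x * n⁻¹ with hy
  have hyS := conj_mem_S hn hx
  set w := n * y * n⁻¹ with hw
  have hwx : w ∈ A x := by
    by_contra hwx
    refine not_three B hx hyS (conj_mem_S hn hyS) hxc hne hwx (fun h => hne ?_) hact
      (hact.conj B hn hx) ((hact.conj B hn hx).conj B hn hyS)
    rcases (B.mem_axis hyS).1 h with h' | h'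
    · exact absurd h' (conj_notMem_cen hn (conj_notMem_cen hn hxc))
    · refine (B.mem_axis hx).2 (Or.inr ?_)
      have := conj_mem_cen (inv_mem hn) h'
      rwa [show n⁻¹ * ((n * x * n⁻¹)⁻¹ * (n * (n * x * n⁻¹) * n⁻¹)) * n⁻¹⁻¹ =
        x⁻¹ * (n * x * n⁻¹) by group] at this
  have hwA : A w = A x := B.axis_eq hx hwx (conj_notMem_cen hn (conj_notMem_cen hn hxc))
  -- even powers fix the axis, odd powers move it
  have heven : ∀ j : ℕ, n ^ (2 * j) * x * (n ^ (2 * j))⁻¹ ∈ A x := by
    intro j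
    induction j with
    | zero => simpa using Base.self_mem_axis _ x
    | succ j ih =>
      have := conj_mem_axis B hn hyS (conj_mem_axis B hn hx ih)
      rw [← hw, hwA] at this
      rwa [show n ^ (2 * (j + 1)) = n * (n * n ^ (2 * j)) by
          rw [← pow_succ', ← pow_succ']; congr 1,
        show n * (n * n ^ (2 * j)) * x * (n * (n * n ^ (2 * j)))⁻¹ =
          n * (n * (n ^ (2 * j) * x * (n ^ (2 * j))⁻¹) * n⁻¹) * n⁻¹ by group]
  haveI : ((S : Subgroup G).subgroupOf N).Normal :=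
    (Subgroup.normal_subgroupOf_iff_le_normalizer le_normalizer).2 le_rfl
  have hmem := Subgroup.pow_index_mem (H := (S : Subgroup G).subgroupOf N) ⟨n, hn⟩
  have hodd : Odd ((S : Subgroup G).subgroupOf N).index := by
    haveI : Fact (Nat.Prime 2) := ⟨Nat.prime_two⟩
    rw [← Nat.not_even_iff_odd, even_iff_two_dvd]
    exact fun h => S.not_dvd_index (h.trans
      (Subgroup.relIndex_dvd_index_of_le (H := (S : Subgroup G)) le_normalizer))
  obtain ⟨j, hj⟩ := hodd
  rw [Subgroup.mem_subgroupOf, hj] at hmem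
  have hs : n ^ (2 * j + 1) ∈ (S : Subgroup G) := by simpa using hmem
  have h1 : n ^ (2 * j + 1) * x * (n ^ (2 * j + 1))⁻¹ ∈ A x :=
    conj_mem_of (B.le_normalizer_axis hx hs) (Base.self_mem_axis _ x)
  have h2 := conj_mem_axis B hn hx (heven j)
  rw [show n * (n ^ (2 * j) * x * (n ^ (2 * j))⁻¹) * n⁻¹ =
    n * n ^ (2 * j) * x * (n * n ^ (2 * j))⁻¹ by group, ← pow_succ'] at h2
  have hnc : n ^ (2 * j + 1) * x * (n ^ (2 * j + 1))⁻¹ ∉ Z :=
    conj_notMem_cen (pow_mem hn _) hxc
  apply hne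
  have e1 := B.axis_eq hx h1 hnc
  have e2 := B.axis_eq hyS h2 hnc
  rw [← e1, e2]
  exact Base.self_mem_axis _ _

theorem normalizer_le_axis (B : Base (S : Subgroup G) z) {x : G} (hx : x ∈ S) (hxc : x ∉ Z)
    (hact : Active (S : Subgroup G) z x) : N ≤ normalizer (A x : Set G) := fun n hn =>
  Fusion.RankTwoFusionSimple.mem_normalizer_of fun a ha => by
    have := conj_mem_axis B hn hx ha
    rwa [B.axis_eq hx (axis_fixed B hx hxc hact hn) (conj_notMem_cen hn hxc)] at this

/-- A subgroup invariant under fusion in `S` and in the active axes is strongly closed. -/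
theorem stronglyClosed_of_steps (B : Base (S : Subgroup G) z) (D : Subgroup G) (hD : D ≤ S)
    (hS : ∀ n ∈ N, ∀ r ∈ D, n * r * n⁻¹ ∈ D)
    (hA : ∀ x ∈ S, x ∉ Z → Active (S : Subgroup G) z x → ∀ n ∈ normalizer (A x : Set G),
      ∀ r ∈ A x, r ∈ D → n * r * n⁻¹ ∈ D) :
    Cfsg.IsStronglyClosed D (S : Subgroup G) := by
  haveI : Fact (Nat.Prime 2) := ⟨Nat.prime_two⟩
  refine ⟨hD, fun r hr g hg => TwoGroups.FusionCentric.fusion_invariant_centric S (· ∈ D) ?_ ?_
    r g (hD hr) hg hr⟩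
  · exact fun s hs w _ hw => hS s (le_normalizer hs) w hw
  · intro R hR hC _ n hn w hw h
    rcases B.centric_cases hR hC with rfl | ⟨x, hx, hxc, rfl⟩
    · exact hS n hn w h
    · by_cases ha : Active (S : Subgroup G) z x
      · exact hA x hx hxc ha n hn w hw h
      · obtain ⟨k, hk, _, hkn⟩ := exists_mem_normalizer B hx hxc ha hn
        exact hkn w hw ▸ hS k hk w h

theorem le_of_steps (B : Base (S : Subgroup G) z) (hperf : commutator G = ⊤) (M : Subgroup G)
    (hS : ∀ n ∈ N, ∀ r ∈ S, n * r * n⁻¹ * r⁻¹ ∈ M)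
    (hA : ∀ x ∈ S, x ∉ Z → Active (S : Subgroup G) z x → ∀ n ∈ normalizer (A x : Set G),
      ∀ r ∈ A x, n * r * n⁻¹ * r⁻¹ ∈ M) : (S : Subgroup G) ≤ M := by
  refine sylow_le_of_centric hperf S M fun R hR hC n hn r hr => ?_
  rcases B.centric_cases hR hC with rfl | ⟨x, hx, hxc, rfl⟩
  · exact hS n hn r hr
  · by_cases ha : Active (S : Subgroup G) z x
    · exact hA x hx hxc ha n hn r hr
    · obtain ⟨k, hk, _, hkn⟩ := exists_mem_normalizer B hx hxc ha hn
      exact hkn r hr ▸ hS k hk r (hR hr)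

theorem exists_active (B : Base (S : Subgroup G) z) (hs : IsSimpleGroup G)
    (hna : ¬ IsMulCommutative G) : ∃ x ∈ S, x ∉ Z ∧ Active (S : Subgroup G) z x := by
  by_contra hcon
  push Not at hcon
  haveI : Fact (Nat.Prime 2) := ⟨Nat.prime_two⟩
  have hiso : ∀ g : G, g * z * g⁻¹ ∈ S → g * z * g⁻¹ = z := fun g hg =>
    TwoGroups.FusionCentric.fusion_invariant_centric S (· = z)
      (fun s hs w _ hw => by subst hw; exact fix_z B (le_normalizer hs))
      (fun R hR hC _ n hn w hw h => by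
        subst h
        rcases B.centric_cases hR hC with rfl | ⟨x, hx, hxc, rfl⟩
        · exact fix_z B hn
        · by_contra hne
          exact hcon x hx hxc ⟨n, hn, hne⟩)
      z g B.z_mem_S hg rfl
  have hz2 : orderOf z = 2 := orderOf_eq_prime (by rw [pow_two]; exact B.z_sq) B.z_ne
  obtain ⟨K, hK, hodd, hcomm⟩ := Cfsg.Agent.S0215.result S z hz2 B.z_mem_S hiso
  haveI := hs
  rcases Subgroup.Normal.eq_bot_or_eq_top hK with rfl | rfl
  · have hzc : z ∈ center G := mem_center_iff.2 fun g => by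
      have := Subgroup.mem_bot.1 (hcomm g)
      exact (commutatorElement_eq_one_iff_mul_comm.1 this).symm
    rcases Subgroup.Normal.eq_bot_or_eq_top (inferInstance : (center G).Normal) with h | h
    · exact B.z_ne (Subgroup.mem_bot.1 (h ▸ hzc))
    · exact hna ⟨⟨fun a b => mem_center_iff.1 (h ▸ mem_top b) a⟩⟩
  · rw [Subgroup.card_top] at hodd
    exact Nat.not_odd_iff_even.2 (Walter.even_card_of_simple hs hna) hodd

theorem exists_two_active (B : Base (S : Subgroup G) z) (hs : IsSimpleGroup G)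
    (hna : ¬ IsMulCommutative G) (hperf : commutator G = ⊤) :
    ∃ x ∈ S, ∃ y ∈ S, x ∉ Z ∧ y ∉ A x ∧
      Active (S : Subgroup G) z x ∧ Active (S : Subgroup G) z y := by
  obtain ⟨x, hx, hxc, hax⟩ := exists_active B hs hna
  by_contra hcon
  push Not at hcon
  obtain ⟨y, hy, hyx⟩ := B.exists_outside hx hxc
  refine hyx (le_of_steps B hperf (A x) (fun n hn r hr => ?_) (fun w hw hwc haw n hn r hr => ?_) hy)
  · have hNn := normalizer_le_axis B hx hxc hax hn
    by_cases hrA : r ∈ A x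
    · exact mul_mem (conj_mem_of hNn hrA) (inv_mem hrA)
    · exact B.mul_mem_axis hx hxc (conj_mem_S hn hr) (inv_mem hr)
        (fun h => hrA ((mem_normalizer_iff.1 hNn r).2 h)) fun h => hrA (inv_mem_iff.1 h)
  · have hwx : w ∈ A x := by_contra fun h => hcon x hx w hw hxc h hax haw
    rw [B.axis_eq hx hwx hwc] at hn hr
    exact mul_mem (conj_mem_of hn hr) (inv_mem hr)

/-- Two active axes with the product of their four-groups. -/
structure Two (S : Sylow 2 G) (z x y a b : G) : Prop where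
  base : Base (S : Subgroup G) z
  x_mem : x ∈ S
  y_mem : y ∈ S
  x_not : x ∉ cen (S : Subgroup G)
  y_not : y ∉ axis (S : Subgroup G) x
  act₁ : Active (S : Subgroup G) z x
  act₂ : Active (S : Subgroup G) z y
  s₁ : Split (S : Subgroup G) (axis (S : Subgroup G) x) z a
  s₂ : Split (S : Subgroup G) (axis (S : Subgroup G) y) z b

namespace Two

variable {x y a b : G}

theorem y_notMem (T : Two S z x y a b) : y ∉ Z := T.base.notMem_cen_of T.y_not

theorem symm (T : Two S z x y a b) : Two S z y x b a where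
  base := T.base
  x_mem := T.y_mem
  y_mem := T.x_mem
  x_not := T.y_notMem
  y_not := fun h => T.y_not (by
    rw [T.base.axis_eq T.y_mem h T.x_not]; exact Base.self_mem_axis _ y)
  act₁ := T.act₂
  act₂ := T.act₁
  s₁ := T.s₂
  s₂ := T.s₁

/-- The product of the two four-groups. -/
def D (z a b : G) : Subgroup G := closure ({z, a} : Set G) ⊔ closure ({z, b} : Set G)

theorem D_le (T : Two S z x y a b) : D z a b ≤ S := by
  refine sup_le ((closure_le _).2 ?_) ((closure_le _).2 ?_) <;> rintro w (rfl | rfl)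
  · exact T.base.z_mem_S
  · exact T.base.axis_le T.x_mem T.s₁.v_mem
  · exact T.base.z_mem_S
  · exact T.base.axis_le T.y_mem T.s₂.v_mem

theorem b_notMem (T : Two S z x y a b) : b ∉ A x := fun h => T.symm.y_not (by
  rw [← T.base.axis_eq T.y_mem T.s₂.v_mem T.s₂.v_notMem,
    T.base.axis_eq T.x_mem h T.s₂.v_notMem]
  exact Base.self_mem_axis _ x)

theorem four_le (T : Two S z x y a b) : closure ({z, a} : Set G) ≤ A x := by
  refine (closure_le _).2 ?_
  rintro w (rfl | rfl)
  · exact mem_sup_left T.base.z_mem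
  · exact T.s₁.v_mem

theorem mem_D (T : Two S z x y a b) {w : G} (hw : w ∈ D z a b) :
    w ∈ closure ({z, a} : Set G) ∨ w * b ∈ closure ({z, a} : Set G) := by
  set V := closure ({z, a} : Set G) with hV
  have hb : b ∈ normalizer (A x : Set G) :=
    T.base.le_normalizer_axis T.x_mem (T.base.axis_le T.y_mem T.s₂.v_mem)
  have hbi : b⁻¹ = b := inv_eq_of_mul_eq_one_right T.s₂.v_sq
  have hbV : ∀ w ∈ V, b * w * b ∈ V := fun w hw => by
    simpa [hbi] using T.s₁.invariant b hb w hw
  have hzV : z ∈ V := subset_closure (by simp)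
  rw [D, ← Subgroup.closure_union] at hw
  induction hw using closure_induction with
  | mem w hw =>
    rcases hw with (rfl | rfl) | (rfl | rfl)
    · exact Or.inl hzV
    · exact Or.inl (subset_closure (by simp))
    · exact Or.inl hzV
    · exact Or.inr (by rw [T.s₂.v_sq]; exact one_mem _)
  | one => exact Or.inl (one_mem _)
  | mul p q _ _ ihp ihq =>
    rcases ihp with hp | hp <;> rcases ihq with hq | hq
    · exact Or.inl (mul_mem hp hq)
    · exact Or.inr (by rw [mul_assoc]; exact mul_mem hp hq)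
    · right
      rw [show p * q * b = p * b * (b⁻¹ * q * b) by group, hbi]
      exact mul_mem hp (hbV q hq)
    · left
      rw [show p * q = p * b * (b⁻¹ * (q * b) * b⁻¹) by group, hbi]
      exact mul_mem hp (hbV _ hq)
  | inv p _ ihp =>
    rcases ihp with hp | hp
    · exact Or.inl (inv_mem hp)
    · right
      rw [show p⁻¹ * b = b * (p * b)⁻¹ * b by rw [mul_inv_rev, hbi, ← mul_assoc b b, T.s₂.v_sq, one_mul]]
      exact hbV _ (inv_mem hp)

theorem D_axis (T : Two S z x y a b) {w : G} (hw : w ∈ D z a b) (hwA : w ∈ A x) :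
    w ∈ closure ({z, a} : Set G) :=
  (T.mem_D hw).resolve_right fun h => T.b_notMem (((A x).mul_mem_cancel_left hwA).1 (T.four_le h))

theorem D_cen (T : Two S z x y a b) {w : G} (hw : w ∈ D z a b) (hwc : w ∈ Z) : w = 1 ∨ w = z :=
  four_inter_cen T.base T.x_mem T.s₁ (T.D_axis hw (mem_sup_left hwc)) hwc

theorem D_comm (z a b : G) : D z a b = D z b a := sup_comm _ _

theorem comm_core (T : Two S z x y a b) {k m : G} (hk : k ∈ coreCen (S : Subgroup G) (A x))
    (hm : m ∈ N) :
    m * k * m⁻¹ * k⁻¹ ∈ coreCen (S : Subgroup G) (A x) ⊓ coreCen (S : Subgroup G) (A y) := by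
  have B := T.base
  refine Subgroup.mem_inf.2 ⟨mul_mem (conj_mem_coreCen (normalizer_le_axis B T.x_mem T.x_not T.act₁ hm) hk)
    (inv_mem hk), ?_⟩
  obtain ⟨w, hw, hk2⟩ := T.s₂.decomp k (mem_sup_left (coreCen_le _ _ hk))
  have hwc : w ∈ Z := by
    rw [show w = k * (w⁻¹ * k)⁻¹ by group]
    exact mul_mem (coreCen_le _ _ hk) (inv_mem (coreCen_le _ _ hk2))
  have hfix : m * w * m⁻¹ = w := by
    rcases four_inter_cen B T.y_mem T.s₂ hw hwc with rfl | rfl
    · group
    · exact fix_z B hm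
  have h1 := mul_mem (conj_mem_coreCen (normalizer_le_axis B T.y_mem T.y_notMem T.act₂ hm) hk2)
    (inv_mem hk2)
  have hcm := cen_comm hwc (conj_mem_S hm (coreCen_le _ _ hk).1)
  rw [show m * (w⁻¹ * k) * m⁻¹ * (w⁻¹ * k)⁻¹ =
    (m * w * m⁻¹)⁻¹ * (m * k * m⁻¹) * k⁻¹ * w by group, hfix] at h1
  have hke : w * k⁻¹ = k⁻¹ * w :=
    (cen_comm hwc (inv_mem (coreCen_le _ _ hk).1)).symm
  rwa [mul_assoc _ k⁻¹ w, ← hke, show w⁻¹ * (m * k * m⁻¹) * (w * k⁻¹) =
    w⁻¹ * (m * k * m⁻¹ * w) * k⁻¹ by group, hcm,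
    show w⁻¹ * (w * (m * k * m⁻¹)) * k⁻¹ = m * k * m⁻¹ * k⁻¹ by group] at h1

/-- The focal bound. -/
def M (S : Subgroup G) (z x y a b : G) : Subgroup G :=
  D z a b ⊔ (coreCen S (axis S x) ⊓ coreCen S (axis S y))

theorem M_comm (z x y a b : G) : M (S : Subgroup G) z x y a b = M (S : Subgroup G) z y x b a := by
  rw [M, M, D_comm, inf_comm]

theorem M_le (T : Two S z x y a b) : M (S : Subgroup G) z x y a b ≤ S :=
  sup_le T.D_le (inf_le_left.trans fun _ h => (coreCen_le _ _ h).1)

theorem z_mem_M (z x y a b : G) : z ∈ M (S : Subgroup G) z x y a b :=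
  mem_sup_left (mem_sup_left (subset_closure (by simp)))

theorem conj_mem_M (T : Two S z x y a b) {s w : G} (hs : s ∈ S)
    (hw : w ∈ M (S : Subgroup G) z x y a b) : s * w * s⁻¹ ∈ M (S : Subgroup G) z x y a b := by
  rcases T.base.comm s hs w (T.M_le hw) with e | e <;> rw [e]
  · exact hw
  · exact mul_mem hw (z_mem_M z x y a b)

theorem step_axis (T : Two S z x y a b) {n r : G} (hn : n ∈ normalizer (A x : Set G))
    (hr : r ∈ A x) : n * r * n⁻¹ * r⁻¹ ∈ M (S : Subgroup G) z x y a b := by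
  obtain ⟨w, hw, hk⟩ := T.s₁.decomp r hr
  set k := w⁻¹ * r with hkdef
  have hk' := coreCen_le _ _ (conj_mem_coreCen hn hk)
  obtain ⟨m, hm, he⟩ := Sylow.conj_eq_normalizer_conj_of_mem_centralizer S k n⁻¹
    (coreCen_le _ _ hk).2 (by rw [inv_inv]; exact hk'.2)
  rw [inv_inv] at he
  have hc := T.comm_core hk (inv_mem hm)
  rw [inv_inv, ← he] at hc
  rw [show r = w * k by rw [hkdef]; group,
    show n * (w * k) * n⁻¹ * (w * k)⁻¹ = n * w * n⁻¹ * (n * k * n⁻¹ * k⁻¹) * w⁻¹ by group]
  exact mul_mem (mul_mem (mem_sup_left (mem_sup_left (T.s₁.invariant n hn w hw))) (mem_sup_right hc))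
    (inv_mem (mem_sup_left (mem_sup_left hw)))

theorem le_M (T : Two S z x y a b) (hperf : commutator G = ⊤) :
    (S : Subgroup G) ≤ M (S : Subgroup G) z x y a b := by
  have B := T.base
  refine le_of_steps B hperf _ (fun n hn r hr => ?_) (fun w hw hwc haw n hn r hr => ?_)
  · obtain ⟨p, hp, q, hq, rfl⟩ := B.exists_mul T.x_mem T.y_mem T.x_not T.y_not hr
    have h1 := T.step_axis (normalizer_le_axis B T.x_mem T.x_not T.act₁ hn) hp
    have h2 := T.symm.step_axis (normalizer_le_axis B T.y_mem T.y_notMem T.act₂ hn) hq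
    rw [← M_comm] at h2
    rw [show n * (p * q) * n⁻¹ * (p * q)⁻¹ =
      n * p * n⁻¹ * p⁻¹ * (p * (n * q * n⁻¹ * q⁻¹) * p⁻¹) by group]
    exact mul_mem h1 (T.conj_mem_M (B.axis_le T.x_mem hp) h2)
  · by_cases hwx : w ∈ A x
    · rw [B.axis_eq T.x_mem hwx hwc] at hn hr
      exact T.step_axis hn hr
    by_cases hwy : w ∈ A y
    · rw [B.axis_eq T.y_mem hwy hwc] at hn hr
      rw [M_comm]
      exact T.symm.step_axis hn hr
    · exact (not_three B T.x_mem T.y_mem hw T.x_not T.y_not hwx hwy T.act₁ T.act₂ haw).elim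

theorem core_le (T : Two S z x y a b) (hperf : commutator G = ⊤) :
    coreCen (S : Subgroup G) (A x) ≤ coreCen (S : Subgroup G) (A y) := by
  intro c hc
  have hcM := T.le_M hperf (coreCen_le _ _ hc).1
  rw [M, ← SetLike.mem_coe, Subgroup.coe_mul_of_right_le_normalizer_left _ _ ?_, Set.mem_mul] at hcM
  · obtain ⟨d, hd, k, hk, rfl⟩ := hcM
    have hd' : d ∈ coreCen (S : Subgroup G) (A x) := ((coreCen _ _).mul_mem_cancel_right hk.1).1 hc
    rcases T.D_cen hd (coreCen_le _ _ hd') with rfl | rfl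
    · rw [one_mul]; exact hk.2
    · exact absurd hd' T.s₁.z_notMem
  · intro k hk
    refine centralizer_le_normalizer _ (mem_centralizer_iff.2 fun d hd => ?_)
    exact cen_comm (coreCen_le _ _ hk.1) (T.D_le hd)

theorem core_eq (T : Two S z x y a b) (hperf : commutator G = ⊤) :
    coreCen (S : Subgroup G) (A x) = coreCen (S : Subgroup G) (A y) :=
  le_antisymm (T.core_le hperf) (T.symm.core_le hperf)

theorem conj_mem_D (T : Two S z x y a b) {n w : G} (hn : n ∈ N) (hw : w ∈ D z a b) :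
    n * w * n⁻¹ ∈ D z a b := by
  have B := T.base
  have h : D z a b ≤ (D z a b).comap (MulAut.conj n).toMonoidHom := by
    refine sup_le (fun p hp => ?_) (fun p hp => ?_)
    · exact mem_sup_left (T.s₁.invariant n (normalizer_le_axis B T.x_mem T.x_not T.act₁ hn) p hp)
    · exact mem_sup_right (T.s₂.invariant n (normalizer_le_axis B T.y_mem T.y_notMem T.act₂ hn) p hp)
  exact h hw

theorem setup (T : Two S z x y a b) (hperf : commutator G = ⊤) :
    ProductFusion.Setup S (D z a b) (coreCen (S : Subgroup G) (A x)) where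
  sc₁ := by
    have B := T.base
    refine stronglyClosed_of_steps B _ T.D_le (fun n hn r hr => T.conj_mem_D hn hr)
      fun w hw hwc haw n hn r hr hrD => ?_
    by_cases hwx : w ∈ A x
    · rw [B.axis_eq T.x_mem hwx hwc] at hn hr
      exact mem_sup_left (T.s₁.invariant n hn r (T.D_axis hrD hr))
    by_cases hwy : w ∈ A y
    · rw [B.axis_eq T.y_mem hwy hwc] at hn hr
      rw [D_comm] at hrD
      exact mem_sup_right (T.s₂.invariant n hn r (T.symm.D_axis hrD hr))
    · exact (not_three B T.x_mem T.y_mem hw T.x_not T.y_not hwx hwy T.act₁ T.act₂ haw).elim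
  sc₂ := by
    have B := T.base
    refine stronglyClosed_of_steps B _ (fun _ h => (coreCen_le _ _ h).1)
      (fun n hn r hr => conj_mem_coreCen (normalizer_le_axis B T.x_mem T.x_not T.act₁ hn) hr)
      fun w hw hwc haw n hn r _ hrW => ?_
    by_cases hwx : w ∈ A x
    · rw [B.axis_eq T.x_mem hwx hwc] at hn
      exact conj_mem_coreCen hn hrW
    by_cases hwy : w ∈ A y
    · rw [B.axis_eq T.y_mem hwy hwc] at hn
      rw [T.core_eq hperf] at hrW ⊢
      exact conj_mem_coreCen hn hrW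
    · exact (not_three B T.x_mem T.y_mem hw T.x_not T.y_not hwx hwy T.act₁ T.act₂ haw).elim
  comm := fun d hd c hc => cen_comm (coreCen_le _ _ hc) (T.D_le hd)
  disj := by
    rw [eq_bot_iff]
    rintro w ⟨hd, hc⟩
    rcases T.D_cen hd (coreCen_le _ _ hc) with rfl | rfl
    · exact one_mem _
    · exact absurd hc T.s₁.z_notMem

end Two

/-- The Sylow subgroup is dihedral of order eight. -/
theorem dihedral_of_simple (B : Base (S : Subgroup G) z) (hs : IsSimpleGroup G)
    (hna : ¬ IsMulCommutative G) : Nonempty ((S : Subgroup G) ≃* DihedralGroup 4) := by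
  haveI : Fact (Nat.Prime 2) := ⟨Nat.prime_two⟩
  haveI := hs
  have hperf : commutator G = ⊤ :=
    (Subgroup.Normal.eq_bot_or_eq_top inferInstance).resolve_left fun h =>
      hna ⟨⟨fun p q => commutatorElement_eq_one_iff_mul_comm.1 (Subgroup.mem_bot.1
        (h ▸ commutator_mem_commutator (mem_top p) (mem_top q)))⟩⟩
  obtain ⟨x, hx, y, hy, hxc, hyx, hax, hay⟩ := exists_two_active B hs hna hperf
  obtain ⟨a, Ha⟩ := exists_split B hx hxc hax
  obtain ⟨b, Hb⟩ := exists_split B hy (B.notMem_cen_of hyx) hay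
  have T : Two S z x y a b := ⟨B, hx, hy, hxc, hyx, hax, hay, Ha, Hb⟩
  set W := coreCen (S : Subgroup G) (A x)
  have hclo := ProductFusion.commutator_normalClosure_eq_bot
    (Walter.pPrimeCore_eq_bot_of_simple hs hna) (T.setup hperf)
  have htop : ∀ X : Subgroup G, X ≠ ⊥ → normalClosure (X : Set G) = ⊤ := fun X hX =>
    (Subgroup.Normal.eq_bot_or_eq_top inferInstance).resolve_left fun h0 => hX
      (le_bot_iff.1 (h0 ▸ subset_normalClosure))
  have hzD : z ∈ Two.D z a b := mem_sup_left (subset_closure (by simp))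
  have hW : W = ⊥ := by
    by_contra hW
    rw [htop _ fun h => B.z_ne (Subgroup.mem_bot.1 (h ▸ hzD)), htop _ hW, ← _root_.commutator_def,
      hperf] at hclo
    exact bot_ne_top hclo.symm
  have hSD : (S : Subgroup G) = Two.D z a b := by
    refine le_antisymm ((T.le_M hperf).trans (sup_le le_rfl ?_)) T.D_le
    exact inf_le_left.trans (by rw [show coreCen (S : Subgroup G) (A x) = ⊥ from hW]; exact bot_le)
  have haS := B.axis_le hx Ha.v_mem
  have hbS := B.axis_le hy Hb.v_mem
  have hba : b * a * b⁻¹ = a * z :=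
    B.conj_eq haS hbS Ha.v_notMem fun h => T.b_notMem (by
      rwa [B.axis_eq hx Ha.v_mem Ha.v_notMem] at h)
  have hbi : b⁻¹ = b := inv_eq_of_mul_eq_one_right Hb.v_sq
  have hai : a⁻¹ = a := inv_eq_of_mul_eq_one_right Ha.v_sq
  have hab2 : a * b * (a * b) = z := by
    calc a * b * (a * b) = a * (b * a * b⁻¹) * (b * b) := by group
      _ = z := by rw [hba, Hb.v_sq, mul_one, ← mul_assoc, Ha.v_sq, one_mul]
  have hord : orderOf (a * b) = 2 ^ (1 + 1) := by
    refine orderOf_eq_prime_pow ?_ ?_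
    · rw [pow_one, pow_two, hab2]; exact B.z_ne
    · rw [show 2 ^ (1 + 1) = 2 + 2 by norm_num, pow_add, pow_two, hab2, B.z_sq]
  have hinv : b * (a * b) * b⁻¹ = (a * b)⁻¹ := by
    rw [mul_inv_rev, hai, hbi, mul_assoc, mul_assoc a, Hb.v_sq, mul_one]
  have hmem : b ∉ zpowers (a * b) := fun h => by
    have hbab : b ∈ A (a * b) := zpowers_le.2 (Base.self_mem_axis _ _) h
    have e := B.axis_eq (mul_mem haS hbS) hbab Hb.v_notMem
    have habm : a * b ∈ A b := e ▸ Base.self_mem_axis _ _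
    have ha : a ∈ A b := (mul_mem_cancel_right (Base.self_mem_axis _ b)).1 habm
    rw [B.axis_eq hy Hb.v_mem Hb.v_notMem] at ha
    exact T.symm.b_notMem ha
  have hle : Nat.card (S : Subgroup G) ≤ 8 := by
    let f : Fin 2 × Fin 2 × Fin 2 → G := fun p => a ^ (p.1 : ℕ) * z ^ (p.2.1 : ℕ) * b ^ (p.2.2 : ℕ)
    have hsub : ((S : Subgroup G) : Set G) ⊆ Set.range f := by
      intro w hw
      have hcases : ∀ u ∈ closure ({z, a} : Set G), ∃ i j : Fin 2, u = a ^ (i : ℕ) * z ^ (j : ℕ) := by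
        intro u hu
        rcases mem_four B hx Ha hu with rfl | rfl | rfl | rfl
        · exact ⟨0, 0, by simp⟩
        · exact ⟨0, 1, by simp⟩
        · exact ⟨1, 0, by simp⟩
        · exact ⟨1, 1, by simp⟩
      have hwD : w ∈ Two.D z a b := hSD ▸ hw
      rcases T.mem_D hwD with h | h <;> obtain ⟨i, j, e⟩ := hcases _ h
      · exact ⟨(i, j, 0), by simp [f, e]⟩
      · refine ⟨(i, j, 1), ?_⟩
        show a ^ (i : ℕ) * z ^ (j : ℕ) * b ^ ((1 : Fin 2) : ℕ) = w
        rw [← e, Fin.val_one, pow_one, mul_assoc, Hb.v_sq, mul_one]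
    calc Nat.card (S : Subgroup G) ≤ Nat.card (Set.range f) := Nat.card_mono (Set.toFinite _) hsub
      _ ≤ Nat.card (Fin 2 × Fin 2 × Fin 2) := Finite.card_range_le f
      _ = 8 := by simp
  have hcard : Nat.card (S : Subgroup G) = 2 * 4 := by
    obtain ⟨k, hk⟩ := IsPGroup.iff_card.1 S.2
    have hlt : zpowers (a * b) < (S : Subgroup G) :=
      lt_of_le_of_ne (zpowers_le.2 (mul_mem haS hbS)) fun e => hmem (e.symm ▸ hbS)
    have h4 : 4 < Nat.card (S : Subgroup G) := by
      have h1 := Subgroup.card_le_of_le hlt.le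
      rw [Nat.card_zpowers, hord] at h1
      refine lt_of_le_of_ne h1 fun e => hlt.ne (eq_of_le_of_card_ge hlt.le ?_)
      rw [Nat.card_zpowers, hord]
      exact e.ge
    rw [hk] at hle h4 ⊢
    have h3 : k = 3 := by
      rcases Nat.lt_or_ge k 3 with h | h
      · have := Nat.pow_le_pow_right (show 0 < 2 by norm_num) (show k ≤ 2 by omega)
        omega
      · rcases Nat.lt_or_ge 3 k with h' | h'
        · have := Nat.pow_le_pow_right (show 0 < 2 by norm_num) (show 4 ≤ k by omega)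
          omega
        · omega
    rw [h3]; norm_num
  exact TwoGroups.Recognition.nonempty_dihedral_subgroup (mul_mem haS hbS) hbS hord Hb.v_sq hinv
    hmem hcard

end Cfsg.Agent.Lib.CenterIndexFour70
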